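import Cfsg.Agent.H75.PMComps.PermMain

/-!
The components of a `p`-minimal group that is not `C**(G,T)` as coordinates.
-/

set_option autoImplicit false
set_option linter.unusedSectionVars false
set_option linter.style.haveILetI false

open Subgroup
open scoped commutatorElement MatrixGroups

namespace H75.PMC

open H80.LCSS (modV cenV Data)

variable {G : Type*} [Group G] [Finite G] {p : ℕ} [Fact p.Prime]

theorem base_of_acts {K W : Type} [Group K] [Finite K] [AddCommGroup W] {act : K → W → W}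
    (m : Mdl act) {E₀ : Subgroup G} (hC : cenV p G ≤ E₀)
    {hn : ((cenV p G).subgroupOf E₀).Normal} (e : ↥E₀ ⧸ (cenV p G).subgroupOf E₀ ≃* K)
    (ρ : ↥E₀ →* K) (ψ : ↥⁅modV p G, E₀⁆ →* Multiplicative W) (hρ : Function.Surjective ρ)
    (hψ : Function.Surjective ψ)
    (hker : ∀ u : ↥⁅modV p G, E₀⁆, ψ u = 1 ↔
      (u : G) ∈ ⁅modV p G, E₀⁆ ⊓ centralizer (E₀ : Set G))
    (hact : ∀ (g : ↥E₀) (u w : ↥⁅modV p G, E₀⁆), (w : G) = (g : G) * (u : G) * (g : G)⁻¹ →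
      Multiplicative.toAdd (ψ w) = act (ρ g) (Multiplicative.toAdd (ψ u))) :
    Base p act E₀ ρ ψ := by
  haveI := H80.LCSS.omega_normal' (p := p) (H1.pCore_normal' p G)
  have hle : (cenV p G).subgroupOf E₀ ≤ ρ.ker := by
    intro c hc
    refine MonoidHom.mem_ker.2 (m.faith _ _ fun w => ?_)
    obtain ⟨u, hu⟩ := hψ (Multiplicative.ofAdd w)
    have huV : (u : G) ∈ modV p G := commutator_le_left _ _ u.2
    have h := hact c u u (eq_mul_inv_iff_mul_eq.2 (mem_centralizer_iff.1 hc _ huV))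
    rw [hu, toAdd_ofAdd] at h
    rw [m.one, ← h]
  have heq : (cenV p G).subgroupOf E₀ = ρ.ker := by
    refine eq_of_le_of_card_ge hle (le_of_eq ?_)
    refine Nat.eq_of_mul_eq_mul_left (Nat.card_pos (α := K)) ?_
    conv_rhs => rw [← Nat.card_congr e.toEquiv, ← Subgroup.card_eq_card_quotient_mul_card_subgroup]
    rw [← Nat.card_congr (QuotientGroup.quotientKerEquivOfSurjective ρ hρ).toEquiv,
      ← Subgroup.card_eq_card_quotient_mul_card_subgroup]
  exact ⟨hρ, fun x => by rw [← MonoidHom.mem_ker, ← heq, mem_subgroupOf], hψ,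
    fun u => (hker u).trans ⟨fun h => h.2, fun h => ⟨u.2, h⟩⟩, hact⟩

theorem lin_of_acts {T : Sylow p G} {M : Subgroup G} {r : ℕ} {E : Fin r → Subgroup G}
    (f : Fam p T E) (d : Data p T M) (hr : 1 ≤ r) (i₀ : Fin r) {F : Type} [Field F] [Fintype F]
    {n : ℕ} (hn : 1 ≤ n) (hcard : Fintype.card F = p ^ n)
    {hnor : ((cenV p G).subgroupOf (E i₀)).Normal}
    (e : ↥(E i₀) ⧸ (cenV p G).subgroupOf (E i₀) ≃* SL(2, F))
    (h : Cfsg.ActsAsSL2OnSection F ⊤ (E i₀) ⁅modV p G, E i₀⁆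
      (⁅modV p G, E i₀⁆ ⊓ centralizer ((E i₀ : Subgroup G) : Set G))) :
    H80.PM.HasComps p T := by
  haveI : CharP F p := charP_of_card_eq_prime_pow (by rw [← hcard, Fintype.card_eq_nat_card])
  obtain ⟨-, -, ρ, ψ, hr', hψ, hker, hact⟩ := h
  refine lin_case f d hr (base_of_acts nat2_mdl (f.cen i₀) e ρ ψ
    (MonoidHom.range_eq_top.1 hr') hψ hker fun g u w hw => ?_) hn hcard
  obtain ⟨w', hw', hwe⟩ := hact g u
  rw [show w = w' from Subtype.ext (hw.trans hw'.symm)]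
  exact hwe

/-- The matrix of a permutation of three points on the even vectors. -/
def matThree (σ : Equiv.Perm (Fin 3)) : SL(2, ZMod 2) :=
  ⟨!![(permAct σ (dd 0 2)).1 0, (permAct σ (dd 1 2)).1 0;
      (permAct σ (dd 0 2)).1 1, (permAct σ (dd 1 2)).1 1], by revert σ; decide⟩

theorem matThree_spec : ∀ σ : Equiv.Perm (Fin 3), ∀ v : Fin 3 → ZMod 2,
    (v 0 + v 1 + v 2 = 0) →
      (matThree σ : Matrix (Fin 2) (Fin 2) (ZMod 2)).mulVec ![v 0, v 1] =
        ![v (σ⁻¹ 0), v (σ⁻¹ 1)] := by decide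

theorem matThree_mul : ∀ σ τ : Equiv.Perm (Fin 3), matThree (σ * τ) = matThree σ * matThree τ := by
  decide

theorem matThree_surj : ∀ M : SL(2, ZMod 2), ∃ σ, matThree σ = M := by decide

theorem matThree_inj : ∀ σ τ : Equiv.Perm (Fin 3), matThree σ = matThree τ → σ = τ := by decide

/-- `S₃ ≅ SL₂(2)`. -/
noncomputable def isoThree : Equiv.Perm (Fin 3) ≃* SL(2, ZMod 2) :=
  MulEquiv.ofBijective (MonoidHom.mk' matThree matThree_mul)
    ⟨fun _ _ h => matThree_inj _ _ h, matThree_surj⟩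

theorem three_of_acts [Fact (Nat.Prime 2)] {T : Sylow 2 G} {M : Subgroup G} {r : ℕ}
    {E : Fin r → Subgroup G} (f : Fam 2 T E) (d : Data 2 T M) (hr : 1 ≤ r) (i₀ : Fin r)
    {hnor : ((cenV 2 G).subgroupOf (E i₀)).Normal}
    (e : ↥(E i₀) ⧸ (cenV 2 G).subgroupOf (E i₀) ≃* Equiv.Perm (Fin 3))
    (h : Cfsg.ActsAsOddPermModuleOnSection 3 ⊤ (E i₀) ⁅modV 2 G, E i₀⁆
      (⁅modV 2 G, E i₀⁆ ⊓ centralizer ((E i₀ : Subgroup G) : Set G))) :
    H80.PM.HasComps 2 T := by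
  obtain ⟨hn, hle, ρ, ψ, hr', hψ0, hψ, hker, hact⟩ := h
  let c : Multiplicative (Fin 3 → ZMod 2) →* Multiplicative (Fin 2 → ZMod 2) :=
    AddMonoidHom.toMultiplicative (AddMonoidHom.mk' (fun v => ![v 0, v 1]) fun v w => by
      funext i; fin_cases i <;> rfl)
  have hsum : ∀ u, Multiplicative.toAdd (ψ u) 0 + Multiplicative.toAdd (ψ u) 1 +
      Multiplicative.toAdd (ψ u) 2 = 0 := fun u => by
    have := hψ0 u
    rwa [Fin.sum_univ_three] at this
  refine lin_of_acts f d hr i₀ (n := 1) le_rfl (by rw [ZMod.card, pow_one]) (e.trans isoThree)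
    ⟨hn, hle, isoThree.toMonoidHom.comp ρ, c.comp ψ, ?_, fun v => ?_, fun u => ?_, fun g u => ?_⟩
  · rw [MonoidHom.range_eq_top]
    exact isoThree.surjective.comp (MonoidHom.range_eq_top.1 hr')
  · set a := Multiplicative.toAdd v
    obtain ⟨u, hu⟩ := hψ ![a 0, a 1, a 0 + a 1] (by
      rw [Fin.sum_univ_three]
      simp [CharTwo.add_self_eq_zero])
    refine ⟨u, Multiplicative.toAdd.injective (funext fun i => ?_)⟩
    show (![Multiplicative.toAdd (ψ u) 0, Multiplicative.toAdd (ψ u) 1] : Fin 2 → ZMod 2) i = a i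
    fin_cases i <;> simp [hu]
  · rw [← hker u]
    constructor
    · intro h
      refine Multiplicative.toAdd.injective (funext fun i => ?_)
      have h' := congrArg Multiplicative.toAdd h
      have e0 : Multiplicative.toAdd (ψ u) 0 = 0 := congrFun h' 0
      have e1 : Multiplicative.toAdd (ψ u) 1 = 0 := congrFun h' 1
      have e2 := hsum u
      rw [e0, e1, zero_add, zero_add] at e2
      fin_cases i
      · exact e0
      · exact e1
      · exact e2
    · intro h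
      show c (ψ u) = 1
      rw [h, map_one]
  · obtain ⟨w, hw, hwe⟩ := hact g u
    refine ⟨w, hw, ?_⟩
    show (![Multiplicative.toAdd (ψ w) 0, Multiplicative.toAdd (ψ w) 1] : Fin 2 → ZMod 2) =
      (matThree (ρ g) : Matrix (Fin 2) (Fin 2) (ZMod 2)).mulVec
        ![Multiplicative.toAdd (ψ u) 0, Multiplicative.toAdd (ψ u) 1]
    rw [matThree_spec _ _ (hsum u), hwe, hwe]

theorem sym_of_acts [Fact (Nat.Prime 2)] {T : Sylow 2 G} {M : Subgroup G} {r : ℕ}
    {E : Fin r → Subgroup G} (f : Fam 2 T E) (d : Data 2 T M) (hr : 1 ≤ r) (i₀ : Fin r) {N k : ℕ}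
    (hk : 1 ≤ k) (hN : N = 2 ^ k + 1) {hnor : ((cenV 2 G).subgroupOf (E i₀)).Normal}
    (e : ↥(E i₀) ⧸ (cenV 2 G).subgroupOf (E i₀) ≃* Equiv.Perm (Fin N))
    (h : Cfsg.ActsAsOddPermModuleOnSection N ⊤ (E i₀) ⁅modV 2 G, E i₀⁆
      (⁅modV 2 G, E i₀⁆ ⊓ centralizer ((E i₀ : Subgroup G) : Set G))) :
    H80.PM.HasComps 2 T := by
  obtain ⟨k, rfl⟩ : ∃ j, k = j + 1 := ⟨k - 1, by omega⟩
  rcases Nat.eq_zero_or_pos k with rfl | hk'
  · obtain rfl : N = 3 := by rw [hN]; norm_num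
    exact three_of_acts f d hr i₀ e h
  obtain ⟨m, hm, rfl⟩ : ∃ m, 2 * m = 2 ^ (k + 1) ∧ N = 2 * m + 1 :=
    ⟨2 ^ k, by rw [pow_succ, mul_comm], by rw [hN, pow_succ, mul_comm]⟩
  obtain ⟨-, -, ρ, ψ, hr', hψ0, hψ, hker, hact⟩ := h
  let ψ' : ↥⁅modV 2 G, E i₀⁆ →* Multiplicative ↥(evenV (2 * m + 1)) :=
    MonoidHom.mk' (fun u => Multiplicative.ofAdd ⟨Multiplicative.toAdd (ψ u), hψ0 u⟩) fun u v => by
      rw [← ofAdd_add]
      congr 1
      exact Subtype.ext (by show Multiplicative.toAdd (ψ (u * v)) = _; rw [map_mul]; rfl)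
  have hm2 : 3 ≤ 2 * m + 1 := by
    have : 2 ≤ 2 ^ (k + 1) := Nat.le_self_pow (by omega) 2
    omega
  refine sym_case (k := k + 1) (by omega) hm f d hr (base_of_acts (permAct_mdl hm2) (f.cen i₀) e ρ ψ'
    (MonoidHom.range_eq_top.1 hr') (fun v => ?_) (fun u => ?_) fun g u w hw => ?_)
  · obtain ⟨u, hu⟩ := hψ (Multiplicative.toAdd v).1 (Multiplicative.toAdd v).2
    exact ⟨u, Multiplicative.toAdd.injective (Subtype.ext hu)⟩
  · rw [← hker u]
    show Multiplicative.ofAdd (⟨Multiplicative.toAdd (ψ u), hψ0 u⟩ : ↥(evenV (2 * m + 1))) = 1 ↔ _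
    rw [ofAdd_eq_one, ← toAdd_eq_zero (x := ψ u)]
    exact ⟨fun h => congrArg Subtype.val h, fun h => Subtype.ext h⟩
  · obtain ⟨w', hw', hwe⟩ := hact g u
    rw [show w = w' from Subtype.ext (hw.trans hw'.symm)]
    exact Subtype.ext (funext hwe)

/-- The coordinates and the frame of the local `C**(G,T)`-theorem. -/
theorem hasComps (hmin : Cfsg.IsPMinimal p G)
    (hG : centralizer (Cfsg.pCore p G : Set G) ≤ Cfsg.pCore p G) (T : Sylow p G)
    (hne : Cfsg.cStarStarOf p (T : Subgroup G) ≠ ⊤) : H80.PM.HasComps p T := by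
  obtain ⟨M, d⟩ := H80.LCSS.exists_data hmin hG T hne
  obtain ⟨r, E, hr, hperm, hcen, -, hsup, hcomm, hinter, hconj, hsplit, hfix, hpieces⟩ :=
    H80.LCSS.main_ext hmin hG T hne
  have f : Fam p T E := ⟨hcen, hsup, hcomm, hinter, hconj, hperm, hsplit, hfix⟩
  let i₀ : Fin r := ⟨0, hr⟩
  obtain ⟨n, hn, ⟨F, iF, iFf, hcard, ⟨hnor, ⟨e⟩⟩, h⟩ | ⟨rfl, ⟨hnor, ⟨e⟩⟩, h⟩⟩ := hpieces i₀
  · exact lin_of_acts f d hr i₀ hn hcard e h
  · exact sym_of_acts f d hr i₀ hn rfl e h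

end H75.PMC
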