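import Cfsg.Agent.H75.PMComps.Exact

/-!
The coordinates and the frame from a model of one component.
-/

set_option autoImplicit false
set_option linter.unusedSectionVars false
set_option linter.style.haveILetI false

open Subgroup
open scoped commutatorElement
open H70 (cj)

namespace H75.PMC

open H80.LCSS (modV cenV Data)
open H80.PM (nJ jT fixJ)

/-- What is needed of the action of one component. -/
structure Good (p : ℕ) {K W : Type} [Group K] [AddCommGroup W] {act : K → W → W} (m : Mdl act)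
    (R : Subgroup K) (w : K) : Prop where
  bound : ∀ a : Subgroup K, a ≤ R → Cfsg.IsElementaryAbelian p a →
    Nat.card a * Nat.card (fixW m a) ≤ Nat.card W
  gen : R ⊔ R.map (MulAut.conj w).toMonoidHom = ⊤
  cover : ∀ v : W, ∃ a ∈ fixW m R, ∃ b ∈ fixW m R, v = a + act w b
  ne : ∃ v ∈ fixW m R, v ≠ 0
  rigid : ∀ f : W → W, Function.Injective f → (∀ u v, f (u + v) = f u + f v) →
    (∀ k, ∃ k', ∀ v, f (act k v) = act k' (f v)) → (∀ v ∈ fixW m R, f v = v) →
    (∃ a : ℕ, ∀ v, f^[p ^ a] v = v) → ∃ x ∈ R, ∀ v, f v = act x v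

variable {G : Type*} [Group G] [Finite G] {p : ℕ} [Fact p.Prime] {T : Sylow p G} {r : ℕ}
  {E : Fin r → Subgroup G} {K W : Type} [Group K] [AddCommGroup W]
  {act : K → W → W} {i₀ : Fin r} {π : Fin r → (↥(nJ p G) →* K)}
  {co : Fin r → (↥(modV p G) →* Multiplicative W)}

namespace Sys

variable (f : Fam p T E) (s : Sys p T E act i₀ π co)
include f s

theorem pi_img {i : Fin r} {g : ↥(nJ p G)} (hg : (g : G) ∈ jT p (T : Subgroup G)) :
    π i g ∈ imgAt π (jT p (T : Subgroup G)) i₀ := by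
  obtain ⟨t, ht, -, h1, -⟩ := s.trans i
  have hg' : t⁻¹ * (g : G) * t ∈ jT p (T : Subgroup G) := by
    simpa using jT_conj (inv_mem ht) hg
  exact ⟨⟨_, jT_le_nJ hg'⟩, hg', (h1 g _ rfl).symm⟩

theorem imgAt_le {A : Subgroup G} (hA : A ∈ H78.Block.maxEl p (T : Subgroup G)) (i : Fin r) :
    imgAt π A i ≤ imgAt π (jT p (T : Subgroup G)) i₀ := by
  rintro _ ⟨g, hg, rfl⟩
  refine pi_img f s ?_
  rw [jT, H11.thompsonSubgroupOf_eq]
  exact le_sSup hA hg

omit f s in
theorem imgAt_elem {A : Subgroup G} (hA : A ∈ H78.Block.maxEl p (T : Subgroup G)) (i : Fin r) :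
    Cfsg.IsElementaryAbelian p (imgAt π A i) := by
  refine ⟨⟨⟨?_⟩⟩, ?_⟩
  · rintro ⟨_, a, ha, rfl⟩ ⟨_, b, hb, rfl⟩
    refine Subtype.ext ?_
    show π i a * π i b = π i b * π i a
    rw [← map_mul, ← map_mul, show a * b = b * a from Subtype.ext (H10.comm_of_elem hA.2.1 ha hb)]
  · rintro _ ⟨a, ha, rfl⟩
    rw [← map_pow, show a ^ p = 1 from Subtype.ext (by simpa using hA.2.1.2 _ ha), map_one]

/-- The coordinates of the elementary abelian subgroups of largest order generate those of `J(T)`. -/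
theorem imgAt_jT_le {X : Subgroup K}
    (h : ∀ A, A ∈ H78.Block.maxEl p (T : Subgroup G) → imgAt π A i₀ ≤ X) :
    imgAt π (jT p (T : Subgroup G)) i₀ ≤ X := by
  have h1 : jT p (T : Subgroup G) ≤ (X.comap (π i₀)).map (nJ p G).subtype := by
    rw [jT, H11.thompsonSubgroupOf_eq]
    exact sSup_le fun A hA x hx => ⟨⟨x, maxEl_le_nJ hA hx⟩, h A hA ⟨_, hx, rfl⟩, rfl⟩
  rintro _ ⟨g, hg, rfl⟩
  obtain ⟨g', hg', he⟩ := h1 hg
  rwa [show g' = g from Subtype.ext he] at hg'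

theorem nat_on (i : Fin r) :
    ∃ ψ : ↥⁅modV p G, E i⁆ →* Multiplicative W, Function.Surjective ψ ∧
      (∀ u : ↥⁅modV p G, E i⁆, ψ u = 1 ↔ (u : G) ∈ centralizer (E i : Set G)) ∧
      ∀ (g : ↥(nJ p G)) (u : ↥⁅modV p G, E i⁆), ∃ w : ↥⁅modV p G, E i⁆,
        (w : G) = (g : G) * (u : G) * (g : G)⁻¹ ∧
          Multiplicative.toAdd (ψ w) = act (π i g) (Multiplicative.toAdd (ψ u)) := by
  refine ⟨(co i).comp (Subgroup.inclusion (f.U_le i)), fun w => ?_, fun u => s.co_ker i _,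
    fun g u => ⟨⟨_, H75.conj_mem_of_mem_normalizer (f.U_norm i g.2) u.2⟩, rfl, s.co_eq i g _ _ rfl⟩⟩
  obtain ⟨v, hv, he⟩ := s.co_surj i (Multiplicative.toAdd w)
  exact ⟨⟨v, hv⟩, Multiplicative.toAdd.injective he⟩

variable [Finite K] [Finite W] {m : Mdl act} {R : Subgroup K} {w : K}
  (hR : imgAt π (jT p (T : Subgroup G)) i₀ = R) (gd : Good p m R w)
include hR gd

theorem exactR {A : Subgroup G} (hA : A ∈ H78.Block.maxEl p (T : Subgroup G)) :
    (∀ a : Fin r → K, (∀ i, a i ∈ imgAt π A i) →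
        ∃ g : ↥(nJ p G), (g : G) ∈ A ∧ ∀ i, π i g = a i) ∧
      ∀ i (u : ↥(modV p G)), (u : G) ∈ ⁅modV p G, E i⁆ →
        Multiplicative.toAdd (co i u) ∈ fixW m (imgAt π A i) →
        (u : G) ∈ centralizer (A : Set G) :=
  (exact f s m hA fun i => gd.bound _ (hR ▸ imgAt_le f s hA i) (imgAt_elem hA i)).2

theorem jT_tuple (a : Fin r → K) (ha : ∀ i, a i ∈ R) :
    ∃ g : ↥(nJ p G), (g : G) ∈ jT p (T : Subgroup G) ∧ ∀ i, π i g = a i := by
  classical
  set S := ((jT p (T : Subgroup G)).subgroupOf (nJ p G)).map (piAll π) with hS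
  have h0 : R ≤ S.comap (MonoidHom.mulSingle (fun _ : Fin r => K) i₀) := by
    rw [← hR]
    refine imgAt_jT_le f s fun A hA x hx => ?_
    obtain ⟨g, hg, he⟩ := (exactR f s hR gd hA).1 (Pi.mulSingle i₀ x) fun j => by
      by_cases hj : j = i₀
      · subst hj; simpa using hx
      · rw [Pi.mulSingle_eq_of_ne hj]; exact one_mem _
    refine ⟨g, ?_, funext he⟩
    show (g : G) ∈ jT p (T : Subgroup G)
    rw [jT, H11.thompsonSubgroupOf_eq]
    exact le_sSup hA hg
  suffices h : a ∈ S by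
    obtain ⟨g, hg, he⟩ := h
    exact ⟨g, hg, fun i => congrFun he i⟩
  refine Subgroup.pi_mem_of_mulSingle_mem a fun i => ?_
  obtain ⟨g, hg, he⟩ := h0 (ha i)
  obtain ⟨t, ht, hte, h1, -⟩ := s.trans i
  have hgt : t * (g : G) * t⁻¹ ∈ jT p (T : Subgroup G) := jT_conj ht hg
  have hgE : (g : G) ∈ E i₀ := (mem_E_iff f s i₀ g).2 fun j hj => by
    have := congrFun he j
    rwa [MonoidHom.mulSingle_apply, Pi.mulSingle_eq_of_ne hj] at this
  refine ⟨⟨_, jT_le_nJ hgt⟩, hgt, funext fun j => ?_⟩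
  show π j _ = _
  by_cases hj : j = i
  · subst hj
    rw [h1 ⟨_, jT_le_nJ hgt⟩ g (by group), Pi.mulSingle_eq_same]
    have := congrFun he i₀
    rwa [MonoidHom.mulSingle_apply, Pi.mulSingle_eq_same] at this
  · rw [Pi.mulSingle_eq_of_ne hj]
    refine s.other i j _ ?_ hj
    rw [← hte, H70.mem_cj]
    simpa [mul_assoc] using hgE

theorem comps (hr : 1 ≤ r) : H80.PM.Comps p T R E π where
  pos := hr
  cen_le := f.cen
  sup := f.sup
  mem_iff := mem_E_iff f s
  ker g := ⟨mem_cen_of_pi f s, fun h i => s.cen1 i g h⟩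
  surj := s.surjE
  conj := f.conj
  perm := f.perm
  fix := f.fix
  split := by rw [← f.sup]; exact f.split
  jT_le := jT_le_nJ
  jT_mem i g hg := hR ▸ pi_img f s hg
  jT_prod := jT_tuple f s hR gd

/-- Vectors with fixed coordinate are fixed by `J(T)`. -/
theorem fix_lift {i : Fin r} {u : ↥(modV p G)} (hu : (u : G) ∈ ⁅modV p G, E i⁆)
    (h : Multiplicative.toAdd (co i u) ∈ fixW m R) : (u : G) ∈ fixJ p (T : Subgroup G) := by
  refine ⟨u.2, mem_centralizer_iff.2 fun g hg => ?_⟩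
  have h1 : jT p (T : Subgroup G) ≤ centralizer ({(u : G)} : Set G) := by
    rw [jT, H11.thompsonSubgroupOf_eq]
    refine sSup_le fun A hA x hx => mem_centralizer_singleton_iff.2 ?_
    refine mem_centralizer_iff.1 ((exactR f s hR gd hA).2 i u hu fun k hk => h k ?_) x hx
    exact hR ▸ imgAt_le f s hA i hk
  exact mem_centralizer_singleton_iff.1 (h1 hg)

theorem fixJ_cover {x : ↥(nJ p G)} (hx : ∀ i, π i x = w) :
    fixJ p (T : Subgroup G) ⊔ (fixJ p (T : Subgroup G)).map (MulAut.conj (x : G)).toMonoidHom =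
      modV p G := by
  set X := fixJ p (T : Subgroup G) ⊔
    (fixJ p (T : Subgroup G)).map (MulAut.conj (x : G)).toMonoidHom
  have hVn := modV_normal (p := p) (G := G)
  refine le_antisymm (sup_le inf_le_left ?_) ?_
  · exact (map_mono inf_le_left).trans (hVn.map_conj_eq _ (x : G)).le
  have hz : modV p G ⊓ centralizer (nJ p G : Set G) ≤ fixJ p (T : Subgroup G) :=
    inf_le_inf_left _ (centralizer_le (SetLike.coe_subset_coe.2 jT_le_nJ))
  conv_lhs => rw [← f.split]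
  refine sup_le ?_ (iSup_le fun i u hu => ?_)
  · rw [f.sup]; exact le_sup_of_le_left hz
  obtain ⟨a, ha, b, hb, hab⟩ := gd.cover (Multiplicative.toAdd (co i ⟨u, f.U_le i hu⟩))
  obtain ⟨ua, hua, hea⟩ := s.co_surj i a
  obtain ⟨ub, hub, heb⟩ := s.co_surj i b
  have hFa := fix_lift f s hR gd hua (hea.symm ▸ ha)
  have hFb := fix_lift f s hR gd hub (heb.symm ▸ hb)
  let ub' : ↥(modV p G) := ⟨(x : G) * ub * (x : G)⁻¹, hVn.conj_mem _ ub.2 _⟩
  have hub' : (ub' : G) ∈ ⁅modV p G, E i⁆ := H75.conj_mem_of_mem_normalizer (f.U_norm i x.2) hub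
  have hz' : (((ua * ub')⁻¹ * ⟨u, f.U_le i hu⟩ : ↥(modV p G)) : G) ∈
      centralizer (nJ p G : Set G) := by
    refine (co_all_eq_one f s).1 (Multiplicative.toAdd.injective (funext fun j => ?_))
    show Multiplicative.toAdd (co j ((ua * ub')⁻¹ * ⟨u, f.U_le i hu⟩)) = 0
    have hc : co j ((ua * ub')⁻¹ * ⟨u, f.U_le i hu⟩) =
        (co j ua * co j ub')⁻¹ * co j ⟨u, f.U_le i hu⟩ := by simp only [map_mul, map_inv]
    rw [hc, toAdd_mul, toAdd_inv, toAdd_mul]
    by_cases hj : j = i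
    · subst hj
      rw [s.co_eq j x ub ub' rfl, hx, hea, heb, ← hab, neg_add_cancel]
    · rw [co_other f s hj hua, co_other f s hj hub', co_other f s hj (u := ⟨u, f.U_le i hu⟩) hu]
      simp
  have h1 := mul_mem (mul_mem (mem_sup_left hFa : (ua : G) ∈ X)
    (mem_sup_right ⟨(ub : G), hFb, rfl⟩ : (x : G) * ub * (x : G)⁻¹ ∈ X))
    (mem_sup_left (hz ⟨SetLike.coe_mem _, hz'⟩) :
      (((ua * ub')⁻¹ * ⟨u, f.U_le i hu⟩ : ↥(modV p G)) : G) ∈ X)
  simpa [ub', X, mul_assoc] using h1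

theorem fixJ_gen {x : ↥(nJ p G)} (hx : ∀ i, π i x = w) :
    nJ p G ≤ jT p (T : Subgroup G) ⊔
      (jT p (T : Subgroup G)).map (MulAut.conj (x : G)).toMonoidHom ⊔ cenV p G := by
  classical
  set Y := jT p (T : Subgroup G) ⊔
    (jT p (T : Subgroup G)).map (MulAut.conj (x : G)).toMonoidHom ⊔ cenV p G with hY
  set Y' := (Y.subgroupOf (nJ p G)).map (piAll π) with hY'
  have hsing : ∀ i, (⊤ : Subgroup K) ≤ Y'.comap (MonoidHom.mulSingle (fun _ : Fin r => K) i) := by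
    intro i
    have h1 : ∀ a ∈ R, ∃ g : ↥(nJ p G), (g : G) ∈ jT p (T : Subgroup G) ∧
        ∀ j, π j g = (Pi.mulSingle i a : Fin r → K) j := fun a ha =>
      jT_tuple f s hR gd _ fun j => by
        by_cases hj : j = i
        · subst hj; simpa using ha
        · rw [Pi.mulSingle_eq_of_ne hj]; exact one_mem _
    rw [← gd.gen]
    refine sup_le (fun a ha => ?_) ?_
    · obtain ⟨g, hg, he⟩ := h1 a ha
      exact ⟨g, mem_sup_left (mem_sup_left hg), funext he⟩
    · rintro _ ⟨a, ha, rfl⟩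
      obtain ⟨g, hg, he⟩ := h1 a ha
      refine ⟨x * g * x⁻¹, mem_sup_left (mem_sup_right ⟨g, hg, rfl⟩), funext fun j => ?_⟩
      show π j (x * g * x⁻¹) = (Pi.mulSingle i (w * a * w⁻¹) : Fin r → K) j
      rw [map_mul, map_mul, map_inv, hx, he]
      by_cases hj : j = i
      · subst hj; simp
      · rw [Pi.mulSingle_eq_of_ne hj, Pi.mulSingle_eq_of_ne hj, mul_one, mul_inv_cancel]
  intro g hg
  obtain ⟨y, hy, he⟩ : piAll π ⟨g, hg⟩ ∈ Y' :=
    Subgroup.pi_mem_of_mulSingle_mem _ fun i => hsing i (mem_top _)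
  have h1 : ((y⁻¹ * ⟨g, hg⟩ : ↥(nJ p G)) : G) ∈ cenV p G := mem_cen_of_pi f s fun i => by
    rw [map_mul, map_inv, show π i y = π i ⟨g, hg⟩ from congrFun he i, inv_mul_cancel]
  have hy' : (y : G) ∈ Y := hy
  have h2 := mul_mem hy' (mem_sup_right h1 : _ ∈ Y)
  simpa using h2

end Sys

end H75.PMC
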