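import Cfsg.Agent.H75.PMComps.Sys
import Cfsg.Agent.H80.PM.Baumann

/-!
Exactness of the elementary abelian subgroups of largest order, component by component.
-/

set_option autoImplicit false
set_option linter.unusedSectionVars false
set_option linter.style.haveILetI false

open Subgroup
open scoped commutatorElement
open H70 (cj)

namespace H75.PMC

open H80.LCSS (modV cenV Data)
open H80.PM (nJ jT)

/-- The common fixed points of a subgroup. -/
def fixW {K W : Type} [Group K] [AddCommGroup W] {act : K → W → W} (m : Mdl act) (X : Subgroup K) :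
    AddSubgroup W where
  carrier := {v | ∀ k ∈ X, act k v = v}
  zero_mem' := fun k _ => m.zero k
  add_mem' := fun {v w} hv hw k hk => by rw [m.add, hv k hk, hw k hk]
  neg_mem' := fun {v} hv k hk => by
    have h1 : act k (-v) = -(act k v) := map_neg (m.hom k) v
    rw [h1, hv k hk]

theorem mem_fixW {K W : Type} [Group K] [AddCommGroup W] {act : K → W → W} {m : Mdl act}
    {X : Subgroup K} {v : W} : v ∈ fixW m X ↔ ∀ k ∈ X, act k v = v := Iff.rfl

variable {G : Type*} [Group G] [Finite G] {p : ℕ} [Fact p.Prime] {T : Sylow p G} {r : ℕ}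
  {E : Fin r → Subgroup G} {K W : Type} [Group K] [AddCommGroup W]
  {act : K → W → W} {i₀ : Fin r} {π : Fin r → (↥(nJ p G) →* K)}
  {co : Fin r → (↥(modV p G) →* Multiplicative W)}

theorem maxEl_le_nJ {A : Subgroup G} (hA : A ∈ H78.Block.maxEl p (T : Subgroup G)) : A ≤ nJ p G := by
  refine le_trans ?_ le_sup_left
  rw [H10.thompsonSubgroup_eq]
  exact le_sSup (H10.maxFam_sylow T hA)

theorem jT_le_nJ : jT p (T : Subgroup G) ≤ nJ p G := by
  rw [jT, H11.thompsonSubgroupOf_eq]
  exact sSup_le fun A hA => maxEl_le_nJ hA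

theorem jT_conj {t x : G} (ht : t ∈ (T : Subgroup G)) (hx : x ∈ jT p (T : Subgroup G)) :
    t * x * t⁻¹ ∈ jT p (T : Subgroup G) := by
  have h1 := H1.map_thompsonSubgroupOf p (MulAut.conj t).toMonoidHom (T : Subgroup G) (by
    rw [(MonoidHom.ker_eq_bot_iff _).2 (MulAut.conj t).injective]; exact disjoint_bot_right)
  rw [show (T : Subgroup G).map (MulAut.conj t).toMonoidHom = (T : Subgroup G) from
    H70.cj_of_mem ht] at h1
  exact h1.le (mem_map_of_mem _ hx)

/-- All coordinates together. -/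
def piAll (π : Fin r → (↥(nJ p G) →* K)) : ↥(nJ p G) →* (Fin r → K) :=
  MonoidHom.mk' (fun g i => π i g) fun g h => funext fun i => map_mul (π i) g h

/-- All coordinates of a vector. -/
def coAll (co : Fin r → (↥(modV p G) →* Multiplicative W)) :
    ↥(modV p G) →* Multiplicative (Fin r → W) :=
  MonoidHom.mk' (fun v => Multiplicative.ofAdd fun i => Multiplicative.toAdd (co i v))
    fun v w => by
      rw [← ofAdd_add]
      congr 1
      funext i
      rw [map_mul]
      rfl

/-- The coordinates of a subgroup. -/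
abbrev imgAt (π : Fin r → (↥(nJ p G) →* K)) (A : Subgroup G) (i : Fin r) : Subgroup K :=
  (A.subgroupOf (nJ p G)).map (π i)

theorem card_pi_subgroup {ι : Type} [Fintype ι] {M : Type} [Group M] (H : ι → Subgroup M) :
    Nat.card ↥(Subgroup.pi Set.univ H) = ∏ i, Nat.card ↥(H i) := by
  rw [← Nat.card_pi]
  exact Nat.card_congr
    { toFun := fun a i => ⟨a.1 i, a.2 i trivial⟩
      invFun := fun a => ⟨fun i => a i, fun i _ => (a i).2⟩
      left_inv := fun a => rfl
      right_inv := fun a => rfl }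

namespace Sys

variable (f : Fam p T E) (s : Sys p T E act i₀ π co)
include f s

theorem co_other {i j : Fin r} (h : j ≠ i) {u : ↥(modV p G)}
    (hu : (u : G) ∈ ⁅modV p G, E i⁆) : co j u = 1 :=
  (s.co_ker j u).2 (mem_centralizer_iff.2 fun _ he => f.E_cent h he hu)

theorem co_all_eq_one {v : ↥(modV p G)} :
    coAll co v = 1 ↔ (v : G) ∈ centralizer (nJ p G : Set G) := by
  rw [← f.sup]
  constructor
  · intro h
    refine mem_centralizer_iff.2 fun g hg => ?_
    have h1 : (⨆ i, E i) ≤ centralizer ({(v : G)} : Set G) := iSup_le fun i e he => by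
      refine mem_centralizer_singleton_iff.2 ?_
      have hi : co i v = 1 := congrFun (congrArg Multiplicative.toAdd h) i
      exact mem_centralizer_iff.1 ((s.co_ker i v).1 hi) e he
    exact mem_centralizer_singleton_iff.1 (h1 hg)
  · intro h
    refine Multiplicative.toAdd.injective (funext fun i => ?_)
    show Multiplicative.toAdd (co i v) = 0
    rw [(s.co_ker i v).2 (centralizer_le (SetLike.coe_subset_coe.2 (le_iSup E i)) h), toAdd_one]

theorem coAll_surj : Function.Surjective (coAll co) := by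
  classical
  intro w
  show w ∈ (coAll co).range
  rw [← ofAdd_toAdd w, ← Finset.univ_sum_single (Multiplicative.toAdd w), ofAdd_sum]
  refine prod_mem fun i _ => ?_
  obtain ⟨v, hv, he⟩ := s.co_surj i (Multiplicative.toAdd w i)
  refine ⟨v, Multiplicative.toAdd.injective (funext fun j => ?_)⟩
  show Multiplicative.toAdd (co j v) = _
  rw [toAdd_ofAdd]
  by_cases hj : j = i
  · subst hj; rw [he, Pi.single_eq_same]
  · rw [co_other f s hj hv, Pi.single_eq_of_ne hj, toAdd_one]

theorem mem_cen_of_pi {g : ↥(nJ p G)} (h : ∀ i, π i g = 1) : (g : G) ∈ cenV p G := by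
  classical
  have key : ∀ t : Finset (Fin r), ∀ g : ↥(nJ p G), (g : G) ∈ cenV p G ⊔ t.sup E →
      (∀ i ∈ t, π i g = 1) → (g : G) ∈ cenV p G := by
    intro t
    induction t using Finset.induction with
    | empty => intro g hg _; rwa [Finset.sup_empty, sup_bot_eq] at hg
    | @insert i t hit ih =>
      intro g hg h
      rw [Finset.sup_insert, sup_left_comm] at hg
      have hle : cenV p G ⊔ t.sup E ≤ nJ p G :=
        sup_le le_sup_right (Finset.sup_le fun j _ => f.E_le j)
      obtain ⟨a, ha, b, hb, hab⟩ := H1.exists_mul_of_mem_sup (hle.trans (f.E_norm i)) hg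
      have hb1 : π i ⟨b, hle hb⟩ = 1 := by
        have h1 : cenV p G ⊔ t.sup E ≤ (π i).ker.map (nJ p G).subtype := by
          refine sup_le (fun c hc => ⟨⟨c, le_sup_right (a := Cfsg.thompsonSubgroup p G) hc⟩,
            s.cen1 i _ hc, rfl⟩) (Finset.sup_le fun j hj x hx => ?_)
          exact ⟨⟨x, f.E_le j hx⟩, s.other j i _ hx (fun he => hit (he ▸ hj)), rfl⟩
        obtain ⟨c, hc, hcb⟩ := h1 hb
        rwa [show c = ⟨b, hle hb⟩ from Subtype.ext hcb] at hc
      have hg' : g = ⟨a, f.E_le i ha⟩ * ⟨b, hle hb⟩ := Subtype.ext hab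
      have ha1 := h i (Finset.mem_insert_self _ _)
      rw [hg', map_mul, hb1, mul_one] at ha1
      have haC := s.kerE i _ ha ha1
      refine ih g ?_ fun j hj => h j (Finset.mem_insert_of_mem hj)
      rw [hab]
      exact mul_mem (mem_sup_left haC) hb
  refine key Finset.univ g ?_ fun i _ => h i
  exact mem_sup_right (((f.sup ▸ iSup_le fun i => Finset.le_sup (f := E) (Finset.mem_univ i)) :
    nJ p G ≤ Finset.univ.sup E) g.2)

theorem mem_E_iff (i : Fin r) (g : ↥(nJ p G)) : (g : G) ∈ E i ↔ ∀ j, j ≠ i → π j g = 1 := by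
  refine ⟨fun h j hj => s.other i j g h hj, fun h => ?_⟩
  obtain ⟨e, he, hek⟩ := s.surjE i (π i g)
  have h1 : ((e⁻¹ * g : ↥(nJ p G)) : G) ∈ cenV p G := mem_cen_of_pi f s fun j => by
    rw [map_mul, map_inv]
    by_cases hj : j = i
    · subst hj; rw [hek, inv_mul_cancel]
    · rw [h j hj, s.other i j e he hj, inv_one, mul_one]
  have := mul_mem he (f.cen i h1)
  rwa [Subgroup.coe_mul, Subgroup.coe_inv, mul_inv_cancel_left] at this

theorem piAll_surj : Function.Surjective (piAll π) := by
  classical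
  intro a
  show a ∈ (piAll π).range
  refine Subgroup.pi_mem_of_mulSingle_mem a fun i => ?_
  obtain ⟨g, hg, hk⟩ := s.surjE i (a i)
  refine ⟨g, funext fun j => ?_⟩
  show π j g = _
  by_cases hj : j = i
  · subst hj; rw [hk, Pi.mulSingle_eq_same]
  · rw [s.other i j g hg hj, Pi.mulSingle_eq_of_ne hj]

/-- Elementary abelian subgroups of largest order are exact in every component. -/
theorem exact [Finite K] [Finite W] (m : Mdl act) {A : Subgroup G}
    (hA : A ∈ H78.Block.maxEl p (T : Subgroup G))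
    (hb : ∀ i, Nat.card (imgAt π A i) * Nat.card (fixW m (imgAt π A i)) ≤ Nat.card W) :
    (∀ i, Nat.card (imgAt π A i) * Nat.card (fixW m (imgAt π A i)) = Nat.card W) ∧
      (∀ a : Fin r → K, (∀ i, a i ∈ imgAt π A i) →
        ∃ g : ↥(nJ p G), (g : G) ∈ A ∧ ∀ i, π i g = a i) ∧
      ∀ i (u : ↥(modV p G)), (u : G) ∈ ⁅modV p G, E i⁆ →
        Multiplicative.toAdd (co i u) ∈ fixW m (imgAt π A i) →
        (u : G) ∈ centralizer (A : Set G) := by
  classical
  have hAn := maxEl_le_nJ hA
  have hVn := modV_normal (p := p) (G := G)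
  have hVel : Cfsg.IsElementaryAbelian p (modV p G) := H80.LCSS.omega_elem _
  have hAmax : A ∈ Cfsg.maxElementaryAbelianSubgroups p G :=
    H10.mem_maxElementary_iff.2 (H10.maxFam_sylow T hA)
  have hfx : (modV p G) ⊓ centralizer (A : Set G) = A ⊓ (modV p G) := by
    rw [H10.inf_centralizer_of_max hVel hAmax, inf_comm]
  set A' := A.subgroupOf (nJ p G) with hA'
  set X := ((modV p G) ⊓ centralizer (A : Set G)).subgroupOf (modV p G) with hX
  set P : Subgroup (Fin r → K) := Subgroup.pi Set.univ fun i => imgAt π A i with hP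
  set Q : Subgroup (Multiplicative (Fin r → W)) :=
    (AddSubgroup.pi Set.univ fun i => fixW m (imgAt π A i)).toSubgroup with hQ
  have hmP : A'.map (piAll π) ≤ P := by
    rintro _ ⟨g, hg, rfl⟩ i -
    exact ⟨g, hg, rfl⟩
  have hmQ : X.map (coAll co) ≤ Q := by
    rintro _ ⟨v, hv, rfl⟩ i -
    show Multiplicative.toAdd (co i v) ∈ fixW m (imgAt π A i)
    rintro _ ⟨g, hg, rfl⟩
    rw [← s.co_eq i g v v ?_]
    exact eq_mul_inv_iff_mul_eq.2 (mem_centralizer_iff.1 hv.2 _ hg).symm
  have hkA : Nat.card ↥(A' ⊓ (piAll π).ker) = Nat.card ↥(A ⊓ (cenV p G)) := by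
    rw [← card_map_of_injective (nJ p G).subtype_injective]
    congr 1
    refine congrArg _ (le_antisymm ?_ fun x hx => ?_)
    · rintro _ ⟨g, ⟨hg, hk⟩, rfl⟩
      exact ⟨hg, mem_cen_of_pi f s fun i => congrFun (MonoidHom.mem_ker.1 hk) i⟩
    · exact ⟨⟨x, hAn hx.1⟩, ⟨hx.1, MonoidHom.mem_ker.2 (funext fun i => s.cen1 i _ hx.2)⟩, rfl⟩
  have eA : Nat.card A = Nat.card (A'.map (piAll π)) * Nat.card ↥(A ⊓ (cenV p G)) := by
    rw [← hkA, ← H80.LCSS.card_restrict, hA']
    exact (Nat.card_congr (subgroupOfEquivOfLe hAn).toEquiv).symm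
  have eX : Nat.card ↥(A ⊓ (modV p G)) ≤ Nat.card (X.map (coAll co)) * Nat.card (coAll co).ker := by
    rw [← hfx, ← Nat.card_congr (subgroupOfEquivOfLe
      (inf_le_left : (modV p G) ⊓ centralizer (A : Set G) ≤ (modV p G))).toEquiv, H80.LCSS.card_restrict (coAll co)]
    exact Nat.mul_le_mul_left _ (card_le_of_le inf_le_right)
  have eV : Nat.card (modV p G) = Nat.card W ^ r * Nat.card (coAll co).ker := by
    rw [Subgroup.card_eq_card_quotient_mul_card_subgroup (coAll co).ker]
    congr 1
    refine (Nat.card_congr (QuotientGroup.quotientKerEquivOfSurjective (coAll co)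
      (coAll_surj f s)).toEquiv).trans ?_
    rw [Nat.card_congr Multiplicative.toAdd, Nat.card_fun, Nat.card_eq_fintype_card (α := Fin r),
      Fintype.card_fin]
  have hlow : Nat.card (modV p G) * Nat.card ↥(A ⊓ (cenV p G)) ≤ Nat.card A * Nat.card ↥(A ⊓ (modV p G)) := by
    have hVA : (modV p G) ≤ normalizer ((A ⊓ (cenV p G) : Subgroup G) : Set G) := le_trans
      (fun v hv => mem_centralizer_iff.2 fun x hx => (mem_centralizer_iff.1 hx.2 v hv).symm)
      (centralizer_le_normalizer _)
    have h1 := hAmax.2 _ (H10.elementaryAbelian_sup hVel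
      (H10.elementaryAbelian_of_le hAmax.1 inf_le_left)
      (fun v hv x hx => mem_centralizer_iff.1 hx.2 v hv) : Cfsg.IsElementaryAbelian p
        ((modV p G) ⊔ (A ⊓ (cenV p G)) : Subgroup G))
    have h2 := H10.card_mul_card_inf hVA
    have h3 : (modV p G) ⊓ (A ⊓ (cenV p G)) = A ⊓ (modV p G) := le_antisymm (fun x hx => ⟨hx.2.1, hx.1⟩) fun x hx =>
      ⟨hx.2, hx.1, mem_centralizer_iff.2 fun v hv => H10.comm_of_elem hVel hv hx.2⟩
    rw [h3] at h2
    exact h2.symm.le.trans (Nat.mul_le_mul_right _ h1)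
  have cP : Nat.card P = ∏ i, Nat.card (imgAt π A i) := card_pi_subgroup _
  have cQ : Nat.card Q = ∏ i, Nat.card (fixW m (imgAt π A i)) := by
    rw [← Nat.card_pi]
    exact Nat.card_congr
      { toFun := fun a i => ⟨Multiplicative.toAdd a.1 i, a.2 i trivial⟩
        invFun := fun a => ⟨Multiplicative.ofAdd fun i => (a i : W), fun i _ => (a i).2⟩
        left_inv := fun a => rfl
        right_inv := fun a => rfl }
  have hpq : Nat.card P * Nat.card Q ≤ Nat.card W ^ r := by
    rw [cP, cQ, ← Finset.prod_mul_distrib]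
    calc ∏ i, Nat.card (imgAt π A i) * Nat.card (fixW m (imgAt π A i))
        ≤ ∏ _i : Fin r, Nat.card W := Finset.prod_le_prod' fun i _ => hb i
      _ = _ := by rw [Finset.prod_const, Finset.card_univ, Fintype.card_fin]
  have hchain : Nat.card W ^ r ≤ Nat.card (A'.map (piAll π)) * Nat.card (X.map (coAll co)) := by
    refine Nat.le_of_mul_le_mul_right (c := Nat.card (coAll co).ker * Nat.card ↥(A ⊓ (cenV p G))) ?_
      (Nat.mul_pos Nat.card_pos Nat.card_pos)
    calc Nat.card W ^ r * (Nat.card (coAll co).ker * Nat.card ↥(A ⊓ (cenV p G)))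
        = Nat.card (modV p G) * Nat.card ↥(A ⊓ (cenV p G)) := by rw [eV, mul_assoc]
      _ ≤ Nat.card A * Nat.card ↥(A ⊓ (modV p G)) := hlow
      _ ≤ Nat.card (A'.map (piAll π)) * Nat.card ↥(A ⊓ (cenV p G)) *
          (Nat.card (X.map (coAll co)) * Nat.card (coAll co).ker) := by
            rw [← eA]; exact Nat.mul_le_mul_left _ eX
      _ = _ := by ring
  have l1 := card_le_of_le hmP
  have l2 := card_le_of_le hmQ
  have e1 : A'.map (piAll π) = P := by
    refine eq_of_le_of_card_ge hmP (Nat.le_of_mul_le_mul_right ?_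
      (Nat.card_pos : 0 < Nat.card (X.map (coAll co))))
    calc Nat.card P * Nat.card (X.map (coAll co)) ≤ Nat.card P * Nat.card Q :=
          Nat.mul_le_mul_left _ l2
      _ ≤ _ := hpq.trans hchain
  have e2 : X.map (coAll co) = Q := by
    refine eq_of_le_of_card_ge hmQ (Nat.le_of_mul_le_mul_left ?_
      (Nat.card_pos : 0 < Nat.card (A'.map (piAll π))))
    calc Nat.card (A'.map (piAll π)) * Nat.card Q ≤ Nat.card P * Nat.card Q :=
          Nat.mul_le_mul_right _ l1
      _ ≤ _ := hpq.trans hchain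
  refine ⟨fun i => ?_, fun a ha => ?_, fun i u hu hfix => ?_⟩
  · refine le_antisymm (hb i) (not_lt.1 fun hlt => ?_)
    rw [e1, e2, cP, cQ, ← Finset.prod_mul_distrib] at hchain
    have h1 : ∏ i, Nat.card (imgAt π A i) * Nat.card (fixW m (imgAt π A i)) <
        ∏ _i : Fin r, Nat.card W :=
      Finset.prod_lt_prod (fun j _ => Nat.mul_pos Nat.card_pos Nat.card_pos) (fun j _ => hb j)
        ⟨i, Finset.mem_univ i, hlt⟩
    rw [Finset.prod_const, Finset.card_univ, Fintype.card_fin] at h1
    omega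
  · obtain ⟨g, hg, he⟩ := e1.ge (show a ∈ P from fun i _ => ha i)
    exact ⟨g, hg, fun i => congrFun he i⟩
  · obtain ⟨x, hx, he⟩ := e2.ge (show coAll co u ∈ Q from fun j _ => by
      show Multiplicative.toAdd (co j u) ∈ fixW m (imgAt π A j)
      by_cases hj : j = i
      · subst hj; exact hfix
      · rw [co_other f s hj hu, toAdd_one]; exact zero_mem _)
    have hz := (co_all_eq_one f s (v := x⁻¹ * u)).1 (by rw [map_mul, map_inv, he, inv_mul_cancel])
    have := mul_mem hx.2 (centralizer_le (SetLike.coe_subset_coe.2 hAn) hz)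
    simpa using this

end Sys

end H75.PMC
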