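import Cfsg.Agent.H75.PMComps.Build

/-!
Elements of `T` fixing the fixed points of `J(T)`, and the frame.
-/

set_option autoImplicit false
set_option linter.unusedSectionVars false
set_option linter.style.haveILetI false

open Subgroup
open scoped commutatorElement
open H70 (cj)

namespace H75.PMC

open H80.LCSS (modV cenV Data)
open H80.PM (nJ jT fixJ)

variable {G : Type*} [Group G] [Finite G] {p : ℕ} [Fact p.Prime] {T : Sylow p G} {r : ℕ}
  {E : Fin r → Subgroup G} {K W : Type} [Group K] [Finite K] [AddCommGroup W] [Finite W]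
  {act : K → W → W} {i₀ : Fin r} {π : Fin r → (↥(nJ p G) →* K)}
  {co : Fin r → (↥(modV p G) →* Multiplicative W)}
  {M : Subgroup G} {m : Mdl act} {R : Subgroup K} {w : K}

theorem eq_one_of_stab (d : Data p T M) {Z : Subgroup G} (hZn : Z.Normal) (hZV : Z ≤ modV p G)
    {g : G} (hgT : g ∈ (T : Subgroup G)) (h1 : ∀ z ∈ Z, g * z = z * g)
    (h2 : ∀ v ∈ modV p G, v⁻¹ * (g * v * g⁻¹) ∈ Z) : g ∈ cenV p G := by
  have hVn := modV_normal (p := p) (G := G)
  have hVel : Cfsg.IsElementaryAbelian p (modV p G) := H80.LCSS.omega_elem _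
  let S : Subgroup G := {
    carrier := {g | (∀ z ∈ Z, g * z = z * g) ∧ ∀ v ∈ modV p G, v⁻¹ * (g * v * g⁻¹) ∈ Z}
    one_mem' := ⟨fun z _ => by simp, fun v _ => by simp⟩
    mul_mem' := by
      rintro a b ⟨a1, a2⟩ ⟨b1, b2⟩
      refine ⟨fun z hz => by rw [mul_assoc, b1 z hz, ← mul_assoc, a1 z hz, mul_assoc],
        fun v hv => ?_⟩
      have hb := b2 v hv
      rw [show v⁻¹ * (a * b * v * (a * b)⁻¹) =
        v⁻¹ * (a * v * a⁻¹) * (a * (v⁻¹ * (b * v * b⁻¹)) * a⁻¹) by group, a1 _ hb,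
        mul_inv_cancel_right]
      exact mul_mem (a2 v hv) hb
    inv_mem' := by
      rintro a ⟨a1, a2⟩
      have a1' : ∀ z ∈ Z, a⁻¹ * z = z * a⁻¹ := fun z hz =>
        (Commute.inv_left (a1 z hz))
      refine ⟨a1', fun v hv => ?_⟩
      have hw : a⁻¹ * v * a⁻¹⁻¹ ∈ modV p G := hVn.conj_mem v hv a⁻¹
      have h := inv_mem (a2 _ hw)
      rwa [show ((a⁻¹ * v * a⁻¹⁻¹)⁻¹ * (a * (a⁻¹ * v * a⁻¹⁻¹) * a⁻¹))⁻¹ =
        v⁻¹ * (a⁻¹ * v * a⁻¹⁻¹) by group] at h }
  haveI hSn : S.Normal := by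
    refine ⟨fun a ⟨a1, a2⟩ k => ⟨fun z hz => ?_, fun v hv => ?_⟩⟩
    · have h := a1 (k⁻¹ * z * k) (by simpa using hZn.conj_mem z hz k⁻¹)
      calc k * a * k⁻¹ * z = k * (a * (k⁻¹ * z * k)) * k⁻¹ := by group
        _ = k * (k⁻¹ * z * k * a) * k⁻¹ := by rw [h]
        _ = _ := by group
    · have h := hZn.conj_mem _ (a2 (k⁻¹ * v * k) (by simpa using hVn.conj_mem v hv k⁻¹)) k
      rwa [show k * ((k⁻¹ * v * k)⁻¹ * (a * (k⁻¹ * v * k) * a⁻¹)) * k⁻¹ =
        v⁻¹ * (k * a * k⁻¹ * v * (k * a * k⁻¹)⁻¹) by group] at h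
  haveI hCn : (cenV p G).Normal := Data.cenV_normal
  have hpow : ∀ a ∈ S, a ^ p ∈ cenV p G := by
    rintro a ⟨a1, a2⟩
    refine mem_centralizer_iff.2 fun v hv => ?_
    have hstep : a * v * a⁻¹ = v * (v⁻¹ * (a * v * a⁻¹)) := by group
    have key : ∀ k : ℕ, a ^ k * v * (a ^ k)⁻¹ = v * (v⁻¹ * (a * v * a⁻¹)) ^ k := by
      intro k
      induction k with
      | zero => simp
      | succ k ih =>
        have hc : a * (v⁻¹ * (a * v * a⁻¹)) ^ k * a⁻¹ = (v⁻¹ * (a * v * a⁻¹)) ^ k := by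
          rw [a1 _ (pow_mem (a2 v hv) k), mul_inv_cancel_right]
        calc a ^ (k + 1) * v * (a ^ (k + 1))⁻¹ = a * (a ^ k * v * (a ^ k)⁻¹) * a⁻¹ := by
              rw [pow_succ']; group
          _ = (a * v * a⁻¹) * (a * (v⁻¹ * (a * v * a⁻¹)) ^ k * a⁻¹) := by rw [ih]; group
          _ = _ := by rw [hc, pow_succ', ← mul_assoc v, mul_inv_cancel_left]
    have h := key p
    rw [hVel.2 _ (hZV (a2 v hv)), mul_one, mul_inv_eq_iff_eq_mul] at h
    exact h.symm
  have hSTC : S ≤ (T : Subgroup G) ⊔ cenV p G := by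
    set π' := QuotientGroup.mk' (cenV p G)
    haveI : (S.map π').Normal := hSn.map _ (QuotientGroup.mk'_surjective _)
    have hp : IsPGroup p (S.map π') := by
      rintro ⟨_, a, ha, rfl⟩
      refine ⟨1, Subtype.ext ?_⟩
      rw [pow_one, SubgroupClass.coe_pow]
      show (π' a) ^ p = 1
      rw [← map_pow, ← MonoidHom.mem_ker, QuotientGroup.ker_mk']
      exact hpow a ha
    have h := hp.le_sylow_of_normal (T.mapSurjective (f := π') (QuotientGroup.mk'_surjective _))
    rw [Sylow.coe_mapSurjective] at h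
    have h2 := (map_le_iff_le_comap.1 h)
    rwa [comap_map_eq, QuotientGroup.ker_mk'] at h2
  exact d.core_le_cenV (d.inf_le_core hSn (hSTC.trans (sup_le d.le_M d.cenV_le)) ⟨hgT, h1, h2⟩)

namespace Sys

variable (f : Fam p T E) (s : Sys p T E act i₀ π co)
  (hR : imgAt π (jT p (T : Subgroup G)) i₀ = R) (gd : Good p m R w)
include f s hR gd

theorem fixes_component {t : G} (ht : t ∈ (T : Subgroup G))
    (htc : t ∈ centralizer (fixJ p (T : Subgroup G) : Set G)) (i : Fin r) : cj t (E i) = E i := by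
  obtain ⟨j, hj⟩ := f.perm t ht i
  by_cases h : j = i
  · subst h; exact hj
  exfalso
  obtain ⟨v, hv, hv0⟩ := gd.ne
  obtain ⟨u, hu, hue⟩ := s.co_surj i v
  have hF := fix_lift f s hR gd hu (hue.symm ▸ hv)
  have h1 : t * (u : G) * t⁻¹ = u := mul_inv_eq_iff_eq_mul.2 (mem_centralizer_iff.1 htc _ hF).symm
  have h2 : (u : G) ∈ ⁅modV p G, E j⁆ := by
    have h3 := mem_map_of_mem (MulAut.conj t).toMonoidHom hu
    rw [comm_normal_conj, show cj t (E i) = E j from hj,
      show cj t (modV p G) = modV p G from (modV_normal (p := p) (G := G)).map_conj_eq _ t] at h3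
    rwa [show (MulAut.conj t).toMonoidHom (u : G) = u from h1] at h3
  have h4 : co i u = 1 := co_other f s (Ne.symm h) h2
  exact hv0 (by rw [← hue, h4, toAdd_one])

theorem fixed (d : Data p T M) {t : G} (ht : t ∈ (T : Subgroup G))
    (htc : t ∈ centralizer (fixJ p (T : Subgroup G) : Set G)) :
    t ∈ jT p (T : Subgroup G) ⊔ cenV p G := by
  classical
  have hVn := modV_normal (p := p) (G := G)
  have hNn := nJ_normal (p := p) (G := G)
  let c : G → ↥(modV p G) → ↥(modV p G) := fun g v => ⟨g * v * g⁻¹, hVn.conj_mem _ v.2 g⟩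
  choose sec hsec using fun i => s.co_surj i
  have hker : ∀ i (v : ↥(modV p G)), co i v = 1 → co i (c t v) = 1 := by
    intro i v hv
    refine (s.co_ker i _).2 ?_
    show t * (v : G) * t⁻¹ ∈ centralizer (E i : Set G)
    rw [← fixes_component f s hR gd ht htc i, ← H78.PMin.cj_centralizer, H70.mem_cj]
    simpa [mul_assoc] using (s.co_ker i v).1 hv
  let F : Fin r → W → W := fun i y => Multiplicative.toAdd (co i (c t (sec i y)))
  have hmulc : ∀ u v, c t (u * v) = c t u * c t v := fun u v =>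
    Subtype.ext (show t * ((u : G) * v) * t⁻¹ = t * u * t⁻¹ * (t * v * t⁻¹) by group)
  have hF : ∀ i v, F i (Multiplicative.toAdd (co i v)) = Multiplicative.toAdd (co i (c t v)) := by
    intro i v
    set u := sec i (Multiplicative.toAdd (co i v))
    have h1 : co i u = co i v := Multiplicative.toAdd.injective (hsec i _).2
    have h2 := hker i (u⁻¹ * v) (by rw [map_mul, map_inv, h1, inv_mul_cancel])
    show Multiplicative.toAdd (co i (c t u)) = _
    rw [show c t v = c t u * c t (u⁻¹ * v) by rw [← hmulc, mul_inv_cancel_left], map_mul (co i), h2,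
      mul_one]
  have hrig : ∀ i, ∃ x ∈ R, ∀ y, F i y = act x y := by
    intro i
    have hadd : ∀ y z, F i (y + z) = F i y + F i z := by
      intro y z
      obtain ⟨u, -, rfl⟩ := s.co_surj i y
      obtain ⟨v, -, rfl⟩ := s.co_surj i z
      rw [← toAdd_mul, ← map_mul, hF, hF, hF, hmulc, map_mul, toAdd_mul]
    have hzero : ∀ y, F i y = 0 → y = 0 := by
      intro y hy
      obtain ⟨u, -, rfl⟩ := s.co_surj i y
      rw [hF, toAdd_eq_zero] at hy
      rw [toAdd_eq_zero]
      refine (s.co_ker i u).2 ?_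
      have h1 : t * (u : G) * t⁻¹ ∈ centralizer (E i : Set G) := (s.co_ker i _).1 hy
      rw [← fixes_component f s hR gd ht htc i, ← H78.PMin.cj_centralizer, H70.mem_cj] at h1
      simpa [mul_assoc] using h1
    refine gd.rigid (F i) ?_ hadd (fun k => ?_) (fun y hy => ?_) ?_
    · intro y z h
      let FH : W →+ W := AddMonoidHom.mk' (F i) hadd
      refine sub_eq_zero.1 (hzero (y - z) ?_)
      show FH (y - z) = 0
      rw [map_sub]
      exact sub_eq_zero.2 h
    · obtain ⟨g, -, rfl⟩ := s.surjE i k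
      refine ⟨π i ⟨t * g * t⁻¹, hNn.conj_mem _ g.2 t⟩, fun y => ?_⟩
      obtain ⟨u, -, rfl⟩ := s.co_surj i y
      rw [← s.co_eq i g u (c g u) rfl, hF, hF]
      refine s.co_eq i _ (c t u) _ ?_
      show t * ((g : G) * u * (g : G)⁻¹) * t⁻¹ =
        t * g * t⁻¹ * (t * u * t⁻¹) * (t * g * t⁻¹)⁻¹
      group
    · have hu := hsec i y
      have hFx := fix_lift f s hR gd hu.1 (hu.2.symm ▸ hy)
      show Multiplicative.toAdd (co i (c t (sec i y))) = y
      rw [show c t (sec i y) = sec i y from Subtype.ext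
        (mul_inv_eq_iff_eq_mul.2 (mem_centralizer_iff.1 htc _ hFx).symm), hu.2]
    · obtain ⟨a, ha⟩ := T.isPGroup' ⟨t, ht⟩
      refine ⟨a, fun y => ?_⟩
      have ha' : t ^ p ^ a = 1 := by simpa using congrArg Subtype.val ha
      obtain ⟨u, -, rfl⟩ := s.co_surj i y
      have key : ∀ n : ℕ, (F i)^[n] (Multiplicative.toAdd (co i u)) =
          Multiplicative.toAdd (co i (c (t ^ n) u)) := by
        intro n
        induction n with
        | zero =>
          rw [Function.iterate_zero_apply]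
          congr 2
          exact Subtype.ext (show (u : G) = t ^ 0 * u * (t ^ 0)⁻¹ by simp)
        | succ n ih =>
          rw [Function.iterate_succ_apply', ih, hF]
          congr 2
          exact Subtype.ext (show t * (t ^ n * (u : G) * (t ^ n)⁻¹) * t⁻¹ =
            t ^ (n + 1) * u * (t ^ (n + 1))⁻¹ by rw [pow_succ']; group)
      rw [key, show c (t ^ p ^ a) u = u from Subtype.ext
        (show t ^ p ^ a * (u : G) * (t ^ p ^ a)⁻¹ = u by rw [ha']; group)]
  choose x hxR hx using hrig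
  obtain ⟨g, hg, hge⟩ := jT_tuple f s hR gd x hxR
  have hgT : (g : G) ∈ (T : Subgroup G) := by
    have : jT p (T : Subgroup G) ≤ (T : Subgroup G) := by
      rw [jT, H11.thompsonSubgroupOf_eq]
      exact sSup_le fun A hA => hA.1
    exact this hg
  set Z := modV p G ⊓ centralizer (nJ p G : Set G) with hZ
  have hZn : Z.Normal := by
    have h : ((modV p G ⊓ centralizer (nJ p G : Set G) : Subgroup G)).Normal := by
      haveI := hVn
      haveI := hNn
      infer_instance
    exact h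
  have hZfix : Z ≤ fixJ p (T : Subgroup G) :=
    inf_le_inf_left _ (centralizer_le (SetLike.coe_subset_coe.2 jT_le_nJ))
  have h : (g : G)⁻¹ * t ∈ cenV p G := by
    refine eq_one_of_stab d hZn inf_le_left ((T : Subgroup G).mul_mem ((T : Subgroup G).inv_mem hgT) ht) (fun z hz => ?_)
      fun v hv => Subgroup.mem_inf.2 ⟨mul_mem (inv_mem hv) (hVn.conj_mem v hv _), ?_⟩
    · have h1 : t * z = z * t := (mem_centralizer_iff.1 htc z (hZfix hz)).symm
      have h2 : Commute (g : G) z := mem_centralizer_iff.1 hz.2 _ g.2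
      calc (g : G)⁻¹ * t * z = (g : G)⁻¹ * z * t := by rw [mul_assoc, h1, mul_assoc]
        _ = z * (g : G)⁻¹ * t := by rw [h2.inv_left.eq]
        _ = _ := mul_assoc _ _ _
    · refine (co_all_eq_one f s (v := (⟨v, hv⟩ : ↥(modV p G))⁻¹ * c ((g : G)⁻¹ * t) ⟨v, hv⟩)).1
        (Multiplicative.toAdd.injective (funext fun i => ?_))
      show Multiplicative.toAdd (co i _) = 0
      have hh : Multiplicative.toAdd (co i (c t ⟨v, hv⟩)) = Multiplicative.toAdd
          (co i (c g (c ((g : G)⁻¹ * t) ⟨v, hv⟩))) := by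
        congr 2
        exact Subtype.ext (show t * v * t⁻¹ =
          (g : G) * ((g : G)⁻¹ * t * v * ((g : G)⁻¹ * t)⁻¹) * (g : G)⁻¹ by group)
      rw [← hF, hx, s.co_eq i g (c ((g : G)⁻¹ * t) ⟨v, hv⟩) (c g (c ((g : G)⁻¹ * t) ⟨v, hv⟩)) rfl,
        hge] at hh
      rw [map_mul, map_inv, toAdd_mul, toAdd_inv, m.inj _ hh, neg_add_cancel]
  have := mul_mem (mem_sup_left hg : _ ∈ jT p (T : Subgroup G) ⊔ cenV p G) (mem_sup_right h)
  rwa [mul_inv_cancel_left] at this

/-- The coordinates and the frame. -/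
theorem result (d : Data p T M) (hr : 1 ≤ r) :
    H80.PM.Comps p T R E π ∧ (∀ i, ∃ ψ : ↥⁅modV p G, E i⁆ →* Multiplicative W,
      Function.Surjective ψ ∧
      (∀ u : ↥⁅modV p G, E i⁆, ψ u = 1 ↔ (u : G) ∈ centralizer (E i : Set G)) ∧
      ∀ (g : ↥(nJ p G)) (u : ↥⁅modV p G, E i⁆), ∃ v : ↥⁅modV p G, E i⁆,
        (v : G) = (g : G) * (u : G) * (g : G)⁻¹ ∧
          Multiplicative.toAdd (ψ v) = act (π i g) (Multiplicative.toAdd (ψ u))) ∧
      ∃ x, H80.PM.Frame p T x := by
  obtain ⟨x, hx⟩ := piAll_surj f s fun _ => w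
  have hx' : ∀ i, π i x = w := fun i => congrFun hx i
  exact ⟨comps f s hR gd hr, nat_on f s, (x : G), fixJ_cover f s hR gd hx', x.2,
    fixJ_gen f s hR gd hx', fun t ht htc => fixed f s hR gd d ht htc⟩

end Sys

end H75.PMC
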