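import Cfsg.Agent.H75.PMComps.Fixed

/-!
The special linear components.
-/

set_option autoImplicit false
set_option linter.unusedSectionVars false
set_option linter.style.haveILetI false

open Subgroup
open scoped commutatorElement MatrixGroups
open H70 (cj)

namespace H75.PMC

open H80.LCSS (modV cenV Data)
open H80.PM (nJ jT fixJ upperSub)

variable {F : Type} [Field F]

/-- The natural action. -/
def nat2 (M : SL(2, F)) (v : Fin 2 → F) : Fin 2 → F := (M : Matrix (Fin 2) (Fin 2) F).mulVec v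

theorem nat2_mdl : Mdl (nat2 (F := F)) where
  one v := by simp [nat2]
  mul k l v := by
    show _ = _
    unfold nat2
    rw [Matrix.mulVec_mulVec, ← Matrix.SpecialLinearGroup.coe_mul]
  add k v w := Matrix.mulVec_add _ _ _
  faith k l h := Subtype.ext (Matrix.ext_of_mulVec_single fun j => h _)

theorem nat2_uu (s : F) (v : Fin 2 → F) : nat2 (H98.uu s) v = ![v 0 + s * v 1, v 1] := by
  funext i
  fin_cases i <;> simp [nat2, H98.coe_uu, Matrix.mulVec, dotProduct, Fin.sum_univ_two]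

theorem nat2_ll (s : F) (v : Fin 2 → F) : nat2 (H98.ll s) v = ![v 0, s * v 0 + v 1] := by
  funext i
  fin_cases i <;> simp [nat2, H98.coe_ll, Matrix.mulVec, dotProduct, Fin.sum_univ_two]

theorem mem_upperSub {g : SL(2, F)} : g ∈ upperSub F ↔ ∃ s, g = H98.uu s := by
  constructor
  · intro h
    induction h using Subgroup.closure_induction with
    | mem g hg => obtain ⟨s, rfl⟩ := hg; exact ⟨s, rfl⟩
    | one => exact ⟨0, H98.uu_zero.symm⟩
    | mul a b _ _ ia ib =>
      obtain ⟨s, rfl⟩ := ia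
      obtain ⟨t, rfl⟩ := ib
      exact ⟨s + t, (H98.uu_add s t).symm⟩
    | inv a _ ia =>
      obtain ⟨s, rfl⟩ := ia
      exact ⟨-s, inv_eq_of_mul_eq_one_right (by rw [← H98.uu_add, add_neg_cancel, H98.uu_zero])⟩
  · rintro ⟨s, rfl⟩
    exact subset_closure ⟨s, rfl⟩

theorem stab_line {g : SL(2, F)} (h : nat2 g ![1, 0] = ![1, 0]) : g ∈ upperSub F := by
  have e0 := congrFun h 0
  have e1 := congrFun h 1
  simp [nat2, Matrix.mulVec, dotProduct, Fin.sum_univ_two] at e0 e1
  refine mem_upperSub.2 ⟨(g : Matrix (Fin 2) (Fin 2) F) 0 1, ?_⟩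
  have hdet := g.2
  rw [Matrix.det_fin_two, e0, e1, one_mul, mul_zero, sub_zero] at hdet
  refine Subtype.ext ?_
  ext i j
  fin_cases i <;> fin_cases j <;> simp [H98.coe_uu, e0, e1, hdet]

theorem mem_fixW_upper {v : Fin 2 → F} : v ∈ fixW nat2_mdl (upperSub F) ↔ v 1 = 0 := by
  constructor
  · intro h
    have h1 := congrFun (h _ (mem_upperSub.2 ⟨1, rfl⟩)) 0
    rw [nat2_uu] at h1
    simpa using h1
  · intro h k hk
    obtain ⟨s, rfl⟩ := mem_upperSub.1 hk
    rw [nat2_uu]
    funext i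
    fin_cases i <;> simp [h]

variable [Fintype F]

theorem card_vec : Nat.card (Fin 2 → F) = Fintype.card F * Fintype.card F := by
  rw [Nat.card_fun, Nat.card_eq_fintype_card (α := Fin 2), Fintype.card_fin,
    Nat.card_eq_fintype_card (α := F), pow_two]

theorem card_upperSub : Nat.card (upperSub F) = Fintype.card F := by
  rw [← Nat.card_eq_fintype_card]
  refine (Nat.card_congr (Equiv.ofBijective
    (fun s : F => (⟨H98.uu s, mem_upperSub.2 ⟨s, rfl⟩⟩ : upperSub F)) ⟨fun s t h => ?_, ?_⟩)).symm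
  · have := congrArg (fun g : upperSub F => ((g : SL(2, F)) : Matrix (Fin 2) (Fin 2) F) 0 1) h
    simpa [H98.coe_uu] using this
  · rintro ⟨g, hg⟩
    obtain ⟨s, rfl⟩ := mem_upperSub.1 hg
    exact ⟨s, rfl⟩

theorem upper_bound {a : Subgroup SL(2, F)} (ha : a ≤ upperSub F) :
    Nat.card a * Nat.card (fixW nat2_mdl a) ≤ Nat.card (Fin 2 → F) ∧
      (a ≠ ⊥ → Nat.card a * Nat.card (fixW nat2_mdl a) = Nat.card (Fin 2 → F) →
        a = upperSub F) := by
  by_cases h : a = ⊥
  · refine ⟨?_, fun h' => absurd h h'⟩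
    rw [h, Subgroup.card_bot, one_mul]
    exact Nat.card_le_card_of_injective _ Subtype.val_injective
  obtain ⟨g, hg, hg1⟩ := (Subgroup.ne_bot_iff_exists_ne_one.1 h |> fun ⟨x, hx⟩ =>
    (⟨x.1, x.2, fun e => hx (Subtype.ext e)⟩ : ∃ g ∈ a, g ≠ 1))
  obtain ⟨s, rfl⟩ := mem_upperSub.1 (ha hg)
  have hs : s ≠ 0 := fun e => hg1 (by rw [e, H98.uu_zero])
  have hfix : Nat.card (fixW nat2_mdl a) ≤ Fintype.card F := by
    rw [← Nat.card_eq_fintype_card]
    refine Nat.card_le_card_of_injective (fun v : fixW nat2_mdl a => v.1 0) fun v v' he => ?_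
    have h1 : ∀ v : fixW nat2_mdl a, v.1 1 = 0 := fun v => by
      have h1 := congrFun (v.2 _ hg) 0
      rw [nat2_uu] at h1
      simpa [hs] using h1
    refine Subtype.ext (funext fun i => ?_)
    fin_cases i
    · exact he
    · exact (h1 v).trans (h1 v').symm
  rw [card_vec]
  refine ⟨Nat.mul_le_mul (card_upperSub (F := F) ▸ card_le_of_le ha) hfix, fun _ he => ?_⟩
  refine eq_of_le_of_card_ge ha ?_
  rw [card_upperSub]
  refine Nat.le_of_mul_le_mul_right ?_ (Fintype.card_pos : 0 < Fintype.card F)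
  rw [← he]
  exact Nat.mul_le_mul_left _ hfix

theorem linear_rigid {p : ℕ} [Fact p.Prime] [CharP F p] (f : (Fin 2 → F) → Fin 2 → F)
    (hinj : Function.Injective f) (hadd : ∀ u v, f (u + v) = f u + f v)
    (hnorm : ∀ k : SL(2, F), ∃ k', ∀ v, f (nat2 k v) = nat2 k' (f v))
    (hfix : ∀ v ∈ fixW nat2_mdl (upperSub F), f v = v)
    (hord : ∃ a : ℕ, ∀ v, f^[p ^ a] v = v) : ∃ x ∈ upperSub F, ∀ v, f v = nat2 x v := by
  have hline : ∀ x : F, f ![x, 0] = ![x, 0] := fun x => hfix _ (mem_fixW_upper.2 (by simp))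
  set c := f ![0, 1] 1 with hc
  have hc0 : c ≠ 0 := by
    intro h
    have h1 : f ![0, 1] = f ![f ![0, 1] 0, 0] := by
      rw [hline]
      funext i
      fin_cases i
      · simp
      · simpa [hc] using h
    simpa using congrFun (hinj h1) 1
  -- clear the first coordinate
  set r := - (f ![0, 1] 0) / c with hr
  let g : (Fin 2 → F) → Fin 2 → F := fun v => nat2 (H98.uu r) (f v)
  have hgline : ∀ x : F, g ![x, 0] = ![x, 0] := fun x => by
    show nat2 (H98.uu r) (f ![x, 0]) = _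
    rw [hline, nat2_uu]
    simp
  have hge : g ![0, 1] = ![0, c] := by
    show nat2 (H98.uu r) (f ![0, 1]) = _
    rw [nat2_uu, ← hc, hr, div_mul_cancel₀ _ hc0, add_neg_cancel]
  have hgadd : ∀ u v, g (u + v) = g u + g v := fun u v => by
    show nat2 (H98.uu r) (f (u + v)) = _
    rw [hadd]
    exact nat2_mdl.add _ _ _
  have hgnorm : ∀ k : SL(2, F), ∃ k', ∀ v, g (nat2 k v) = nat2 k' (g v) := by
    intro k
    obtain ⟨k', hk'⟩ := hnorm k
    refine ⟨H98.uu r * k' * (H98.uu r)⁻¹, fun v => ?_⟩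
    show nat2 (H98.uu r) (f (nat2 k v)) = _
    rw [hk', nat2_mdl.mul, nat2_mdl.mul, nat2_mdl.inv_act]
  have hupper : ∀ s, ∃ s', ∀ v, g (nat2 (H98.uu s) v) = nat2 (H98.uu s') (g v) := by
    intro s
    obtain ⟨k', hk'⟩ := hgnorm (H98.uu s)
    obtain ⟨s', rfl⟩ := mem_upperSub.1 (stab_line (g := k') (by
      have h := hk' ![1, 0]
      rw [nat2_uu, hgline] at h
      simp at h
      rw [hgline] at h
      exact h.symm))
    exact ⟨s', hk'⟩
  -- the second coordinate of the image of the opposite line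
  have hb : ∀ y, g ![0, y] 1 = c * y := by
    intro y
    by_cases hy : y = 0
    · subst hy
      rw [hgline]
      simp
    have key : ∀ s : F, ∃ s' : F, ∀ z : F, s * z = s' * g ![0, z] 1 := by
      intro s
      obtain ⟨s', hs'⟩ := hupper s
      refine ⟨s', fun z => ?_⟩
      have h := congrFun (hs' ![0, z]) 0
      rw [nat2_uu, nat2_uu,
        show (![(![0, z] : Fin 2 → F) 0 + s * (![0, z] : Fin 2 → F) 1, (![0, z] : Fin 2 → F) 1] :
          Fin 2 → F) = ![s * z, 0] + ![0, z] by funext i; fin_cases i <;> simp, hgadd, hgline] at h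
      simp at h
      linear_combination h
    obtain ⟨s', hs'⟩ := key 1
    have h1 := hs' 1
    rw [hge] at h1
    simp at h1
    have h2 := hs' y
    rw [one_mul] at h2
    calc g ![0, y] 1 = (c * s') * g ![0, y] 1 := by rw [mul_comm c, ← h1, one_mul]
      _ = c * y := by rw [mul_assoc, ← h2]
  have ha : ∀ y, g ![0, y] 0 = 0 := by
    intro y
    obtain ⟨k', hk'⟩ := hgnorm (H98.ll 1)
    have hfixe : ∀ z, nat2 k' (g ![0, z]) = g ![0, z] := fun z => by
      rw [← hk', nat2_ll]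
      simp
    have h1 := hfixe 1
    rw [hge] at h1
    have e0 := congrFun h1 0
    have e1 := congrFun h1 1
    simp [nat2, Matrix.mulVec, dotProduct, Fin.sum_univ_two, hc0] at e0 e1
    have hdet := k'.2
    rw [Matrix.det_fin_two, e0, e1, mul_one, zero_mul, sub_zero] at hdet
    have hk1 : (k' : Matrix (Fin 2) (Fin 2) F) 1 0 ≠ 0 := by
      intro h
      have : k' = 1 := Subtype.ext (by ext i j; fin_cases i <;> fin_cases j <;> simp [e0, e1, hdet, h])
      have h2 := hk' ![1, 0]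
      rw [this, nat2_mdl.one, nat2_ll, hgline,
        show (![(![1, 0] : Fin 2 → F) 0, 1 * (![1, 0] : Fin 2 → F) 0 + (![1, 0] : Fin 2 → F) 1] :
          Fin 2 → F) = ![1, 0] + ![0, 1] by funext i; fin_cases i <;> simp, hgadd, hgline, hge] at h2
      simpa [hc0] using congrFun h2 1
    have h3 := congrFun (hfixe y) 1
    simp [nat2, Matrix.mulVec, dotProduct, Fin.sum_univ_two, e1, hk1] at h3
    exact h3
  have hform : ∀ v, g v = ![v 0, c * v 1] := fun v => by
    conv_lhs => rw [show v = ![v 0, 0] + ![0, v 1] by funext i; fin_cases i <;> simp]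
    rw [hgadd, hgline]
    funext i
    fin_cases i <;> simp [ha, hb]
  have hf2 : ∀ v, f v 1 = c * v 1 := fun v => by
    have h := congrFun (hform v) 1
    simpa [g, nat2_uu] using h
  obtain ⟨a, ha'⟩ := hord
  have hit : ∀ n v, f^[n] v 1 = c ^ n * v 1 := by
    intro n
    induction n with
    | zero => intro v; simp
    | succ n ih => intro v; rw [Function.iterate_succ_apply', hf2, ih]; ring
  have hc1 : c = 1 := by
    have h := hit (p ^ a) ![0, 1]
    rw [ha'] at h
    simp at h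
    have h2 : (c - 1) ^ p ^ a = 0 := by rw [sub_pow_char_pow, ← h, one_pow, sub_self]
    exact sub_eq_zero.1 (pow_eq_zero_iff (pow_ne_zero _ (Fact.out : p.Prime).ne_zero) |>.1 h2)
  refine ⟨(H98.uu r)⁻¹, inv_mem (mem_upperSub.2 ⟨r, rfl⟩), fun v => ?_⟩
  have h := hform v
  rw [hc1, one_mul, show (![v 0, v 1] : Fin 2 → F) = v by funext i; fin_cases i <;> simp] at h
  conv_rhs => rw [← h]
  exact (nat2_mdl.inv_act _ _).symm

/-- The Weyl element. -/
def weyl2 : SL(2, F) := ⟨!![0, -1; 1, 0], by simp [Matrix.det_fin_two_of]⟩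

theorem linear_good {p : ℕ} [Fact p.Prime] [CharP F p] :
    Good p (nat2_mdl (F := F)) (upperSub F) weyl2 where
  bound a ha _ := (upper_bound ha).1
  gen := by
    refine top_le_iff.1 ((H98.upper_sup_lower (k := F)).ge.trans (sup_le ?_ ?_))
    · intro g hg
      exact mem_sup_left (mem_upperSub.2 (H98.mem_upperUnipotentSL2.1 hg))
    · intro g hg
      obtain ⟨s, rfl⟩ := H98.mem_lowerUnipotentSL2.1 hg
      refine mem_sup_right ⟨H98.uu (-s), mem_upperSub.2 ⟨_, rfl⟩, ?_⟩
      show weyl2 * H98.uu (-s) * weyl2⁻¹ = H98.ll s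
      rw [mul_inv_eq_iff_eq_mul]
      refine Subtype.ext ?_
      show (weyl2 : SL(2, F)).1 * (H98.uu (-s)).1 = (H98.ll s).1 * (weyl2 : SL(2, F)).1
      ext i j
      fin_cases i <;> fin_cases j <;>
        simp [weyl2, H98.coe_uu, H98.coe_ll, Matrix.SpecialLinearGroup.coe_mul, Matrix.mul_apply,
          Fin.sum_univ_two]
  cover v := by
    refine ⟨![v 0, 0], mem_fixW_upper.2 (by simp), ![v 1, 0], mem_fixW_upper.2 (by simp), ?_⟩
    funext i
    fin_cases i <;> simp [nat2, weyl2, Matrix.mulVec, dotProduct, Fin.sum_univ_two]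
  ne := ⟨![1, 0], mem_fixW_upper.2 (by simp), fun h => one_ne_zero (α := F) (congrFun h 0)⟩
  rigid := linear_rigid

theorem exists_conj_upper {p : ℕ} [Fact p.Prime] [CharP F p] {R : Subgroup SL(2, F)}
    (hR : IsPGroup p R) : ∃ k, R.map (MulAut.conj k).toMonoidHom ≤ upperSub F := by
  classical
  letI : MulAction R (Fin 2 → F) :=
    { smul := fun g v => nat2 (g : SL(2, F)) v
      one_smul := nat2_mdl.one
      mul_smul := fun g h v => nat2_mdl.mul _ _ v }
  have hdvd : p ∣ Nat.card (Fin 2 → F) := by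
    rw [card_vec]
    exact dvd_mul_of_dvd_left ((CharP.cast_eq_zero_iff F p _).1 (Nat.cast_card_eq_zero F)) _
  obtain ⟨v, hv, hne⟩ := hR.exists_fixed_point_of_prime_dvd_card_of_fixed_point (Fin 2 → F) hdvd
    (a := 0) (fun g => nat2_mdl.zero (g : SL(2, F)))
  have hv0 : v ≠ 0 := Ne.symm hne
  obtain ⟨k, hk⟩ : ∃ k : SL(2, F), nat2 k ![1, 0] = v := by
    by_cases h0 : v 0 = 0
    · have h1 : v 1 ≠ 0 := fun h1 => hv0 (by funext i; fin_cases i <;> simp [h0, h1])
      refine ⟨⟨!![0, -(v 1)⁻¹; v 1, 0], by simp [Matrix.det_fin_two_of, h1]⟩, ?_⟩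
      funext i
      fin_cases i <;> simp [nat2, Matrix.mulVec, dotProduct, Fin.sum_univ_two, h0]
    · refine ⟨⟨!![v 0, 0; v 1, (v 0)⁻¹], by simp [Matrix.det_fin_two_of, h0]⟩, ?_⟩
      funext i
      fin_cases i <;> simp [nat2, Matrix.mulVec, dotProduct, Fin.sum_univ_two]
  refine ⟨k⁻¹, ?_⟩
  rintro _ ⟨g, hg, rfl⟩
  refine stab_line ?_
  show nat2 (k⁻¹ * g * k⁻¹⁻¹) ![1, 0] = _
  have hgv : nat2 g v = v := hv ⟨g, hg⟩
  rw [inv_inv, nat2_mdl.mul, nat2_mdl.mul, hk, hgv, ← hk, nat2_mdl.inv_act]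

end H75.PMC
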