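import Cfsg.Agent.H75.PMComps.Linear

/-!
Coordinates for special linear components.
-/

set_option autoImplicit false
set_option linter.unusedSectionVars false
set_option linter.style.haveILetI false

open Subgroup
open scoped commutatorElement MatrixGroups
open H70 (cj)

namespace H75.PMC

open H80.LCSS (modV cenV Data)
open H80.PM (nJ jT fixJ upperSub)

variable {G : Type*} [Group G] [Finite G] {p : ℕ} [Fact p.Prime] {T : Sylow p G} {M : Subgroup G}
  {r : ℕ} {E : Fin r → Subgroup G}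

theorem imgAt_twist {K : Type} [Group K] (π : Fin r → (↥(nJ p G) →* K)) (k : K) (A : Subgroup G)
    (i : Fin r) :
    imgAt (fun i => (MulAut.conj k).toMonoidHom.comp (π i)) A i =
      (imgAt π A i).map (MulAut.conj k).toMonoidHom :=
  (Subgroup.map_map _ _ _).symm

theorem imgAt_jT_pgroup {K : Type} [Group K] (π : Fin r → (↥(nJ p G) →* K)) (i : Fin r) :
    IsPGroup p (imgAt π (jT p (T : Subgroup G)) i) := by
  have hJT : jT p (T : Subgroup G) ≤ (T : Subgroup G) := by
    rw [jT, H11.thompsonSubgroupOf_eq]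
    exact sSup_le fun A hA => hA.1
  exact ((T.isPGroup'.to_le hJT).comap_subtype (K := nJ p G)).map _

namespace Sys

variable {K W : Type} [Group K] [AddCommGroup W] {act : K → W → W} {i₀ : Fin r}
  {π : Fin r → (↥(nJ p G) →* K)} {co : Fin r → (↥(modV p G) →* Multiplicative W)}
  (f : Fam p T E) (s : Sys p T E act i₀ π co)
include f s

theorem exists_imgAt_ne (d : Data p T M) :
    ∃ A, A ∈ H78.Block.maxEl p (T : Subgroup G) ∧ imgAt π A i₀ ≠ ⊥ := by
  by_contra hno
  push Not at hno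
  have hbot : imgAt π (jT p (T : Subgroup G)) i₀ ≤ ⊥ := imgAt_jT_le f s fun A hA => (hno A hA).le
  obtain ⟨A, hAT, hA, hAC⟩ := d.exists_moving
  have hA' : A ∈ H78.Block.maxEl p (T : Subgroup G) :=
    ⟨hAT, (H10.mem_maxElementary_iff.1 hA).2.1,
      fun B _ hBel => (H10.mem_maxElementary_iff.1 hA).2.2 B le_top hBel⟩
  refine hAC fun a ha => mem_cen_of_pi f s (g := ⟨a, maxEl_le_nJ hA' ha⟩) fun i => ?_
  exact Subgroup.mem_bot.1 (hbot (imgAt_le f s hA' i ⟨_, ha, rfl⟩))

end Sys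

theorem lin_case {F : Type} [Field F] [Fintype F] [CharP F p] (f : Fam p T E) (d : Data p T M)
    (hr : 1 ≤ r) {i₀ : Fin r} {ρ : ↥(E i₀) →* SL(2, F)}
    {ψ : ↥⁅modV p G, E i₀⁆ →* Multiplicative (Fin 2 → F)} (b : Base p nat2 (E i₀) ρ ψ) {n : ℕ}
    (hn : 1 ≤ n) (hcard : Fintype.card F = p ^ n) : H80.PM.HasComps p T := by
  haveI : Nontrivial SL(2, F) := ⟨⟨H98.uu 1, 1, H98.uu_ne_one one_ne_zero⟩⟩
  obtain ⟨π₀, co₀, s₀⟩ := f.exists_sys nat2_mdl b
  obtain ⟨k, hk⟩ := exists_conj_upper (imgAt_jT_pgroup π₀ i₀ (T := T))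
  set π := fun i => (MulAut.conj k).toMonoidHom.comp (π₀ i) with hπ
  have s := s₀.twist nat2_mdl k
  have hle : imgAt π (jT p (T : Subgroup G)) i₀ ≤ upperSub F := by
    rw [hπ, imgAt_twist]; exact hk
  have hR : imgAt π (jT p (T : Subgroup G)) i₀ = upperSub F := by
    refine le_antisymm hle ?_
    obtain ⟨A, hA, hne⟩ := s.exists_imgAt_ne f d
    have hex := (Sys.exact f s nat2_mdl hA fun i =>
      (upper_bound ((Sys.imgAt_le f s hA i).trans hle)).1).1 i₀
    rw [← (upper_bound ((Sys.imgAt_le f s hA i₀).trans hle)).2 hne hex]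
    exact Sys.imgAt_le f s hA i₀
  obtain ⟨hc, hnat, hframe⟩ := Sys.result f s hR (linear_good (p := p) (F := F)) d hr
  exact Or.inl ⟨F, inferInstance, inferInstance, n, r, E, π, hn, hcard, hc, hnat, hframe⟩

end H75.PMC
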