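import Cfsg.Agent.H75.PMComps.PermPairs

/-!
The symmetric components satisfy the requirements of the frame.
-/

set_option autoImplicit false
set_option linter.unusedSectionVars false
set_option linter.style.haveILetI false

open Subgroup

namespace H75.PMC

open Equiv (swap)
open H80.PM (pairsSub)

theorem permAct_swap {n : ℕ} (a b : Fin n) (v : ↥(evenV n)) :
    permAct (swap a b) v = v + if v.1 a = v.1 b then 0 else dd a b := by
  refine Subtype.ext (funext fun z => ?_)
  have key : v.1 ((swap a b)⁻¹ z) = v.1 z + (v.1 a + v.1 b) * (dd a b).1 z := by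
    rw [Equiv.swap_inv, Equiv.swap_apply_def, dd_apply]
    split_ifs with h1 h2 h3
    · subst h1; subst h2; simp [CharTwo.add_self_eq_zero]
    · subst h1
      linear_combination -(CharTwo.add_self_eq_zero (v.1 z))
    · subst h3
      linear_combination -(CharTwo.add_self_eq_zero (v.1 z))
    · simp
  rw [permAct_apply, key, AddSubgroup.coe_add, Pi.add_apply]
  split_ifs with h
  · rw [h, CharTwo.add_self_eq_zero, zero_mul, AddSubgroup.coe_zero, Pi.zero_apply]
  · rw [(show ∀ x y : ZMod 2, x ≠ y → x + y = 1 by decide) _ _ h, one_mul]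

/-- Images of transpositions under maps normalising the symmetric group are transpositions. -/
theorem image_dd {m : ℕ} (hn : 3 ≤ 2 * m + 1) (f : ↥(evenV (2 * m + 1)) → ↥(evenV (2 * m + 1)))
    (hinj : Function.Injective f) (hadd : ∀ u v, f (u + v) = f u + f v)
    (hnorm : ∀ k, ∃ k', ∀ v, f (permAct k v) = permAct k' (f v))
    {a b : Fin (2 * m + 1)} (hab : a ≠ b) : ∃ x y, x ≠ y ∧ f (dd a b) = dd x y := by
  have M := permAct_mdl hn
  set c := f (dd a b) with hc
  have hf0 : f 0 = 0 := by
    have h := hadd 0 0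
    rwa [add_zero, left_eq_add] at h
  have hc0 : c ≠ 0 := fun h => dd_ne_zero hab (hinj (h.trans hf0.symm))
  obtain ⟨k', hk'⟩ := hnorm (swap a b)
  have hsurj : Function.Surjective f := Finite.injective_iff_surjective.1 hinj
  have h2 : ∀ u, permAct k' u = u ∨ permAct k' u = u + c := by
    intro u
    obtain ⟨v, rfl⟩ := hsurj u
    rw [← hk', permAct_swap, hadd]
    split_ifs
    · left; rw [hf0, add_zero]
    · exact Or.inr rfl
  have hsq : k' * k' = 1 := M.faith _ _ fun u => by
    obtain ⟨v, rfl⟩ := hsurj u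
    rw [M.mul, ← hk', ← hk', ← M.mul, Equiv.swap_mul_self, M.one, M.one]
  have hk1 : ∃ x, k' x ≠ x := by
    by_contra hcon
    push Not at hcon
    have hv : ∀ v, permAct (swap a b) v = v := fun v =>
      hinj (by rw [hk', show k' = 1 from Equiv.ext hcon, M.one])
    have hswap : swap a b = 1 := M.faith _ _ fun v => by rw [hv, M.one]
    exact hab (by
      have := Equiv.congr_fun hswap a
      rw [Equiv.swap_apply_left, Equiv.Perm.one_apply] at this
      exact this.symm)
  obtain ⟨x, hx⟩ := hk1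
  obtain ⟨d, hd⟩ := Equiv.Perm.exists_fixed_point_of_prime (p := 2) (n := 1)
    (by rw [Fintype.card_fin]; omega) (σ := k') (by rw [pow_one, sq, hsq])
  refine ⟨x, k' x, Ne.symm hx, ?_⟩
  have hxd : x ≠ d := fun h => hx (h ▸ hd)
  rcases h2 (dd x d) with h | h <;> rw [permAct_dd, hd] at h
  · rcases dd_eq hxd h.symm with ⟨h', -⟩ | ⟨h', -⟩
    · exact absurd h' hx
    · exact absurd (k'.injective (h'.trans hd.symm)) hxd
  · have h' := congrArg (fun w => dd x d + w) h
    rw [← add_assoc, evenV_add_self, zero_add] at h'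
    rw [← h', dd_comm (k' x) d, dd_trans]

theorem dd_split {n : ℕ} {A B x y u v : Fin n} (hAB : A ≠ B) (huv : u ≠ v) (hxy : x ≠ y)
    (h : dd x y + dd u v = dd A B) (hA : x = A ∨ y = A) :
    ∃ c, c ≠ A ∧ c ≠ B ∧ dd x y = dd A c ∧ dd u v = dd B c := by
  obtain ⟨c, hcA, hc⟩ : ∃ c, c ≠ A ∧ dd x y = dd A c := by
    rcases hA with rfl | rfl
    · exact ⟨y, hxy.symm, rfl⟩
    · exact ⟨x, hxy, dd_comm _ _⟩
  have huv' : dd u v = dd B c := by
    rw [hc] at h
    have h1 := congrArg (fun w => dd A c + w) h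
    rw [← add_assoc, evenV_add_self, zero_add] at h1
    rw [h1, dd_comm A c, dd_comm B c, dd_trans]
  refine ⟨c, hcA, fun he => ?_, hc, huv'⟩
  rw [he, dd_self] at huv'
  exact dd_ne_zero huv huv'

theorem dd_meet {n : ℕ} {a b c d u v : Fin n} (hab : a ≠ b) (hcd : c ≠ d)
    (h : dd a b + dd c d = dd u v) : a = c ∨ a = d ∨ b = c ∨ b = d := by
  by_contra hcon
  push Not at hcon
  obtain ⟨h1, h2, h3, h4⟩ := hcon
  have hev : ∀ z, (dd a b).1 z + (dd c d).1 z = (dd u v).1 z := fun z => by
    rw [← h]; rfl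
  have ha := hev a
  have hb := hev b
  have hc := hev c
  simp only [dd_apply, hab, hab.symm, hcd, h1, h2, h3, h4, h1.symm, h3.symm, if_true,
    if_false, add_zero, zero_add] at ha hb hc
  have key : ∀ z : Fin n, (1 : ZMod 2) = (if z = u then 1 else 0) + (if z = v then 1 else 0) →
      z = u ∨ z = v := by
    intro z hz
    by_contra hcon
    push Not at hcon
    rw [if_neg hcon.1, if_neg hcon.2, add_zero] at hz
    exact one_ne_zero hz
  rcases key a ha with rfl | rfl <;> rcases key b hb with rfl | rfl <;>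
    rcases key c hc with rfl | rfl <;> contradiction

variable {m : ℕ}

theorem dd_pair_mem (hn : 3 ≤ 2 * m + 1) (j : Fin m) :
    dd (lo j) (hi j) ∈ fixW (permAct_mdl hn) (pairsSub m) := by
  intro k hk
  induction hk using Subgroup.closure_induction with
  | mem g hg =>
    obtain ⟨i, rfl⟩ := hg
    rw [permAct_dd]
    by_cases h : i = j
    · subst h; rw [Equiv.swap_apply_left, Equiv.swap_apply_right, dd_comm]
    · have := Fin.val_injective.ne h
      rw [Equiv.swap_apply_of_ne_of_ne, Equiv.swap_apply_of_ne_of_ne] <;> simp [Fin.ext_iff] <;>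
        omega
  | one => rfl
  | mul a b _ _ ia ib => rw [(permAct_mdl hn).mul, ib, ia]
  | inv a _ ia => conv_lhs => rw [← ia]; rw [(permAct_mdl hn).inv_act]

theorem perm_rigid (hm : 2 ≤ m) (hn : 3 ≤ 2 * m + 1)
    (f : ↥(evenV (2 * m + 1)) → ↥(evenV (2 * m + 1))) (hinj : Function.Injective f)
    (hadd : ∀ u v, f (u + v) = f u + f v)
    (hnorm : ∀ k, ∃ k', ∀ v, f (permAct k v) = permAct k' (f v))
    (hfix : ∀ v ∈ fixW (permAct_mdl hn) (pairsSub m), f v = v) :
    ∃ x ∈ pairsSub m, ∀ v, f v = permAct x v := by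
  classical
  set L := lastPt m with hL
  have hne : ∀ j : Fin m, lo j ≠ L ∧ hi j ≠ L := fun j => by
    constructor <;> simp [hL, Fin.ext_iff] <;> omega
  -- the common point
  have hstep : ∀ j : Fin m, ∃ c, c ≠ lo j ∧ c ≠ hi j ∧
      ((f (dd (lo j) L) = dd (lo j) c ∧ f (dd (hi j) L) = dd (hi j) c) ∨
      (f (dd (lo j) L) = dd (hi j) c ∧ f (dd (hi j) L) = dd (lo j) c)) := by
    intro j
    obtain ⟨x, y, hxy, hA⟩ := image_dd hn f hinj hadd hnorm (hne j).1
    obtain ⟨u, v, huv, hB⟩ := image_dd hn f hinj hadd hnorm (hne j).2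
    have hsum : dd x y + dd u v = dd (lo j) (hi j) := by
      rw [← hA, ← hB, ← hadd, dd_comm (hi j) L, dd_trans, hfix _ (dd_pair_mem hn j)]
    by_cases hin : x = lo j ∨ y = lo j
    · obtain ⟨c, h1, h2, h3, h4⟩ := dd_split (lo_ne_hi j) huv hxy hsum hin
      exact ⟨c, h1, h2, Or.inl ⟨hA.trans h3, hB.trans h4⟩⟩
    · push Not at hin
      have hin' : u = lo j ∨ v = lo j := by
        have h0 := congrArg (fun w : ↥(evenV (2 * m + 1)) => w.1 (lo j)) hsum
        simp only [AddSubgroup.coe_add, Pi.add_apply, dd_apply, if_pos, if_neg (lo_ne_hi j),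
          if_neg (Ne.symm hin.1), if_neg (Ne.symm hin.2), zero_add, add_zero] at h0
        by_contra hcon
        push Not at hcon
        rw [if_neg (Ne.symm hcon.1), if_neg (Ne.symm hcon.2), add_zero] at h0
        exact zero_ne_one h0
      obtain ⟨c, h1, h2, h3, h4⟩ := dd_split (lo_ne_hi j) hxy huv ((add_comm _ _).trans hsum) hin'
      exact ⟨c, h1, h2, Or.inr ⟨hA.trans h4, hB.trans h3⟩⟩
  choose c hclo hchi hc using hstep
  have hsub : ∀ j, ∀ x, x = lo j ∨ x = hi j → ∃ z, (z = lo j ∨ z = hi j) ∧ f (dd z L) = dd x (c j) := by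
    intro j x hx
    rcases hc j with ⟨h1, h2⟩ | ⟨h1, h2⟩ <;> rcases hx with rfl | rfl
    exacts [⟨_, Or.inl rfl, h1⟩, ⟨_, Or.inr rfl, h2⟩, ⟨_, Or.inr rfl, h2⟩, ⟨_, Or.inl rfl, h1⟩]
  have hmeet : ∀ i j, i ≠ j → ∀ x x', (x = lo i ∨ x = hi i) → (x' = lo j ∨ x' = hi j) →
      c i ≠ c j → x = c j ∨ c i = x' := by
    intro i j hij x x' hx hx' hcc
    obtain ⟨z, hz, hzf⟩ := hsub i x hx
    obtain ⟨z', hz', hzf'⟩ := hsub j x' hx'
    have hval := Fin.val_injective.ne hij
    have hzz : z ≠ z' := by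
      rcases hz with rfl | rfl <;> rcases hz' with rfl | rfl <;> simp [Fin.ext_iff] <;> omega
    obtain ⟨u, v, -, huv⟩ := image_dd hn f hinj hadd hnorm hzz
    rw [← dd_trans z L z', dd_comm L z', hadd, hzf, hzf'] at huv
    have hxx : x ≠ x' := by
      rcases hx with rfl | rfl <;> rcases hx' with rfl | rfl <;> simp [Fin.ext_iff] <;> omega
    have hxc : x ≠ c i := by rcases hx with rfl | rfl <;> [exact (hclo i).symm; exact (hchi i).symm]
    have hxc' : x' ≠ c j := by rcases hx' with rfl | rfl <;> [exact (hclo j).symm; exact (hchi j).symm]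
    rcases dd_meet hxc hxc' huv with h | h | h | h
    · exact absurd h hxx
    · exact Or.inl h
    · exact Or.inr h
    · exact absurd h hcc
  have hconst : ∀ i j, i ≠ j → c i = c j := by
    intro i j hij
    by_contra hcc
    have h1 := fun x hx => hmeet i j hij x (lo j) hx (Or.inl rfl) hcc
    have h2 := fun x hx => hmeet i j hij x (hi j) hx (Or.inr rfl) hcc
    by_cases h : c i = lo j
    · have e1 := (h2 (lo i) (Or.inl rfl)).resolve_right fun e => lo_ne_hi j (h.symm.trans e)
      have e2 := (h2 (hi i) (Or.inr rfl)).resolve_right fun e => lo_ne_hi j (h.symm.trans e)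
      exact lo_ne_hi i (e1.trans e2.symm)
    · exact lo_ne_hi i (((h1 _ (Or.inl rfl)).resolve_right h).trans
        ((h1 _ (Or.inr rfl)).resolve_right h).symm)
  have hcL : ∀ j, c j = L := by
    intro j
    rcases point_cases (c j) with h | ⟨i, h | h⟩
    · exact h
    · by_cases hij : i = j
      · subst hij; exact absurd h (hclo i)
      · exact absurd ((hconst i j hij).trans h) (hclo i)
    · by_cases hij : i = j
      · subst hij; exact absurd h (hchi i)
      · exact absurd ((hconst i j hij).trans h) (hchi i)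
  have hgx : ∀ x, ∃ y, f (dd x L) = dd y L ∧ (x = L → y = L) ∧
      ∀ j : Fin m, (x = lo j ∨ x = hi j) → (y = lo j ∨ y = hi j) := by
    intro x
    rcases point_cases x with rfl | ⟨j, hx⟩
    · refine ⟨L, ?_, fun _ => rfl, fun j hj => ?_⟩
      · rw [dd_self]
        have h := hadd 0 0
        rwa [add_zero, left_eq_add] at h
      · rcases hj with h | h
        · exact absurd h.symm (hne j).1
        · exact absurd h.symm (hne j).2
    · obtain ⟨y, hy, hy'⟩ : ∃ y, f (dd x L) = dd y L ∧ (y = lo j ∨ y = hi j) := by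
        have h := hc j
        rw [hcL j] at h
        rcases h with ⟨h1, h2⟩ | ⟨h1, h2⟩ <;> rcases hx with rfl | rfl
        exacts [⟨_, h1, Or.inl rfl⟩, ⟨_, h2, Or.inr rfl⟩, ⟨_, h1, Or.inr rfl⟩, ⟨_, h2, Or.inl rfl⟩]
      refine ⟨y, hy, fun h => ?_, fun i hi' => ?_⟩
      · rcases hx with rfl | rfl
        · exact absurd h (hne j).1
        · exact absurd h (hne j).2
      · have hij : i = j := by
          rcases hx with rfl | rfl <;> rcases hi' with h | h <;> simp [Fin.ext_iff] at h ⊢ <;> omega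
        subst hij; exact hy'
  choose g hg hgL hgp using hgx
  have hginj : Function.Injective g := by
    intro x y h
    have h1 := hinj ((hg x).trans (by rw [h]; exact (hg y).symm))
    by_cases hx : x = L
    · subst hx
      rw [dd_self] at h1
      by_contra hne'
      exact dd_ne_zero (Ne.symm hne') h1.symm
    · rcases dd_eq hx h1 with ⟨h2, -⟩ | ⟨-, h3⟩
      · exact h2.symm
      · exact absurd h3.symm hx
  let σ : Equiv.Perm (Fin (2 * m + 1)) :=
    Equiv.ofBijective g ⟨hginj, Finite.injective_iff_surjective.1 hginj⟩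
  refine ⟨σ, mem_pairsSub_of (hgL L rfl) (fun j => hgp _ j (Or.inl rfl))
    (fun j => hgp _ j (Or.inr rfl)), fun v => ?_⟩
  let X : AddSubgroup ↥(evenV (2 * m + 1)) :=
    AddMonoidHom.eqLocus (AddMonoidHom.mk' f hadd) ((permAct_mdl hn).hom σ)
  refine (span_dd L (X := X) (fun x => ?_) v : v ∈ X)
  show f (dd x L) = permAct σ (dd x L)
  rw [permAct_dd, hg]
  show dd (g x) L = dd (g x) (g L)
  rw [hgL L rfl]

theorem perm_good (hm : 2 ≤ m) (hn : 3 ≤ 2 * m + 1) :
    Good 2 (permAct_mdl hn) (pairsSub m) (finRotate (2 * m + 1)) where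
  bound a ha hel :=
    (perm_bound hn (fun g hg h hh => H10.comm_of_elem hel hg hh)
      (L := lastPt m) fun g hg => pairs_fix_last (ha hg)).1
  gen := by
    set X := pairsSub m ⊔ (pairsSub m).map (MulAut.conj (finRotate (2 * m + 1))).toMonoidHom
    have h : Submonoid.closure (Set.range fun i : Fin (2 * m) => swap i.castSucc i.succ) ≤
        X.toSubmonoid := by
      rw [Submonoid.closure_le]
      rintro _ ⟨i, rfl⟩
      show swap i.castSucc i.succ ∈ X
      rcases Nat.mod_two_eq_zero_or_one i.1 with h | h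
      · refine mem_sup_left ?_
        rw [show i.castSucc = lo (⟨i.1 / 2, by omega⟩ : Fin m) from Fin.ext (by simp; omega),
          show i.succ = hi (⟨i.1 / 2, by omega⟩ : Fin m) from Fin.ext (by simp; omega)]
        exact swap_mem_pairsSub _
      · refine mem_sup_right ⟨_, swap_mem_pairsSub ⟨i.1 / 2, by omega⟩, ?_⟩
        show finRotate _ * swap _ _ * (finRotate _)⁻¹ = _
        rw [← Equiv.swap_apply_apply, finRotate_of_lt (by simp; omega),
          finRotate_of_lt (by simp; omega)]
        congr 1 <;> refine Fin.ext ?_ <;> simp <;> omega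
    rw [Equiv.Perm.mclosure_swap_castSucc_succ] at h
    exact eq_top_iff.2 fun g _ => h (Submonoid.mem_top g)
  cover v := by
    set w := finRotate (2 * m + 1)
    let Fx := fixW (permAct_mdl hn) (pairsSub m)
    let X : AddSubgroup ↥(evenV (2 * m + 1)) := Fx ⊔ Fx.map ((permAct_mdl hn).hom w)
    have hadj : ∀ x : Fin (2 * m + 1), ∀ hx : x.1 < 2 * m, dd x ⟨x.1 + 1, by omega⟩ ∈ X := by
      intro x hx
      rcases Nat.mod_two_eq_zero_or_one x.1 with h | h
      · refine AddSubgroup.mem_sup_left ?_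
        rw [show dd x ⟨x.1 + 1, by omega⟩ = dd (lo (⟨x.1 / 2, by omega⟩ : Fin m)) (hi ⟨x.1 / 2, by omega⟩)
          by congr 1 <;> exact Fin.ext (by simp; omega)]
        exact dd_pair_mem hn _
      · refine AddSubgroup.mem_sup_right ⟨_, dd_pair_mem hn ⟨x.1 / 2, by omega⟩, ?_⟩
        show permAct w _ = _
        rw [permAct_dd, finRotate_of_lt (by simp; omega), finRotate_of_lt (by simp; omega)]
        congr 1 <;> refine Fin.ext ?_ <;> simp <;> omega
    have hall : ∀ k, ∀ x : Fin (2 * m + 1), x.1 + k = 2 * m → dd x (lastPt m) ∈ X := by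
      intro k
      induction k with
      | zero =>
        intro x hx
        rw [show x = lastPt m from Fin.ext (by simpa using hx), dd_self]
        exact zero_mem X
      | succ k ih =>
        intro x hx
        have := add_mem (hadj x (by omega)) (ih ⟨x.1 + 1, by omega⟩ (by show x.1 + 1 + k = _; omega))
        rwa [dd_trans] at this
    obtain ⟨a, ha, _, ⟨b, hb, rfl⟩, he⟩ := AddSubgroup.mem_sup.1
      (span_dd (lastPt m) (X := X) (fun x => hall (2 * m - x.1) x (by omega)) v)
    exact ⟨a, ha, b, hb, he.symm⟩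
  ne := ⟨_, dd_pair_mem hn ⟨0, by omega⟩, dd_ne_zero (lo_ne_hi _)⟩
  rigid f hinj hadd hnorm hfix _ := perm_rigid hm hn f hinj hadd hnorm hfix

end H75.PMC
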