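import Cfsg.Agent.H75.PMComps.PermGood
import Cfsg.Agent.H75.PMComps.LinearMain

/-!
Coordinates for symmetric components.
-/

set_option autoImplicit false
set_option linter.unusedSectionVars false
set_option linter.style.haveILetI false

open Subgroup
open scoped commutatorElement MatrixGroups
open H70 (cj)

namespace H75.PMC

open H80.LCSS (modV cenV Data)
open H80.PM (nJ jT fixJ pairsSub)

variable {G : Type*} [Group G] [Finite G]

theorem not_dvd_index_subgroupOf {p : ℕ} [Fact p.Prime] (T : Sylow p G) {N : Subgroup G}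
    (hN : N.Normal) : ¬ p ∣ ((T : Subgroup G).subgroupOf N).index := by
  have h1 := H10.card_mul_card_inf
    (le_top.trans (normalizer_eq_top_iff.2 hN).ge : (T : Subgroup G) ≤ normalizer (N : Set G))
  have h2 : ((T : Subgroup G).subgroupOf N).index * Nat.card ↥((T : Subgroup G) ⊓ N) = Nat.card N := by
    rw [← Subgroup.card_mul_index ((T : Subgroup G).subgroupOf N), mul_comm]
    congr 1
    rw [← card_map_of_injective N.subtype_injective, subgroupOf_map_subtype]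
  have h3 : Nat.card ↥((T : Subgroup G) ⊔ N) =
      Nat.card (T : Subgroup G) * ((T : Subgroup G).subgroupOf N).index := by
    refine Nat.eq_of_mul_eq_mul_right (Nat.card_pos (α := ↥((T : Subgroup G) ⊓ N))) ?_
    rw [h1, mul_assoc, h2]
  have h4 : ((T : Subgroup G).subgroupOf N).index ∣ (T : Subgroup G).index := by
    refine Nat.dvd_of_mul_dvd_mul_left (Nat.card_pos (α := ↥(T : Subgroup G))) ?_
    rw [← h3, Subgroup.card_mul_index]
    exact Subgroup.card_subgroup_dvd_card _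
  exact fun h => T.not_dvd_index (h.trans h4)

variable [Fact (Nat.Prime 2)] {T : Sylow 2 G} {M : Subgroup G} {r : ℕ} {E : Fin r → Subgroup G}

theorem sym_case {m k : ℕ} (hk : 2 ≤ k) (hm : 2 * m = 2 ^ k) (f : Fam 2 T E) (d : Data 2 T M)
    (hr : 1 ≤ r) {i₀ : Fin r} {ρ : ↥(E i₀) →* Equiv.Perm (Fin (2 * m + 1))}
    {ψ : ↥⁅modV 2 G, E i₀⁆ →* Multiplicative ↥(evenV (2 * m + 1))}
    (b : Base 2 permAct (E i₀) ρ ψ) : H80.PM.HasComps 2 T := by
  have h4 : 2 ^ 2 ≤ 2 ^ k := Nat.pow_le_pow_right (by norm_num) hk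
  have hm2 : 2 ≤ m := by omega
  have hn : 3 ≤ 2 * m + 1 := by omega
  have hmdl := permAct_mdl hn
  haveI : Nontrivial (Fin (2 * m + 1)) := Fin.nontrivial_iff_two_le.2 (by omega)
  obtain ⟨π₀, co₀, s₀⟩ := f.exists_sys hmdl b
  set R₀ := imgAt π₀ (jT 2 (T : Subgroup G)) i₀ with hR₀
  set P := ((T : Subgroup G).subgroupOf (nJ 2 G)).map (π₀ i₀) with hP
  have hPp : IsPGroup 2 P := (T.isPGroup'.comap_subtype).map _
  have hsurj : Function.Surjective (π₀ i₀) := fun k => by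
    obtain ⟨g, -, hg⟩ := s₀.surjE i₀ k
    exact ⟨g, hg⟩
  have hPi : ¬ 2 ∣ P.index := fun h =>
    not_dvd_index_subgroupOf T nJ_normal (h.trans (Subgroup.index_map_dvd ((T : Subgroup G).subgroupOf (nJ 2 G)) hsurj))
  have hJT : jT 2 (T : Subgroup G) ≤ (T : Subgroup G) := by
    rw [jT, H11.thompsonSubgroupOf_eq]
    exact sSup_le fun A hA => hA.1
  have hRP : R₀ ≤ P := map_mono fun g hg => hJT hg
  have hnorm : ∀ g ∈ P, ∀ x ∈ R₀, g * x * g⁻¹ ∈ R₀ := by
    rintro _ ⟨t, ht, rfl⟩ _ ⟨g, hg, rfl⟩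
    exact ⟨t * g * t⁻¹, jT_conj (t := (t : G)) ht hg, by rw [map_mul, map_mul, map_inv]⟩
  obtain ⟨L, hL⟩ := hPp.nonempty_fixed_point_of_prime_not_dvd_card (Fin (2 * m + 1))
    (by rw [Nat.card_fin]; omega)
  have hfixL : ∀ g ∈ R₀, g L = L := fun g hg => hL ⟨g, hRP hg⟩
  have hbd : ∀ a : Subgroup (Equiv.Perm (Fin (2 * m + 1))), a ≤ R₀ →
      Cfsg.IsElementaryAbelian 2 a →
      Nat.card a * Nat.card (fixW hmdl a) ≤ Nat.card ↥(evenV (2 * m + 1)) ∧
        (Nat.card a * Nat.card (fixW hmdl a) = Nat.card ↥(evenV (2 * m + 1)) →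
          a ≤ closure {σ | σ ∈ a ∧ ∃ x y, x ≠ y ∧ σ = Equiv.swap x y}) := fun a ha hel =>
    perm_bound hn (fun g hg h hh => H10.comm_of_elem hel hg hh) fun g hg => hfixL g (ha hg)
  have hgen : R₀ ≤ closure {σ | σ ∈ R₀ ∧ ∃ x y, x ≠ y ∧ σ = Equiv.swap x y} := by
    refine Sys.imgAt_jT_le f s₀ fun A hA => ?_
    have hex := (Sys.exact f s₀ hmdl hA fun i =>
      (hbd _ (Sys.imgAt_le f s₀ hA i) (Sys.imgAt_elem hA i)).1).1 i₀
    refine le_trans ((hbd _ (Sys.imgAt_le f s₀ hA i₀) (Sys.imgAt_elem hA i₀)).2 hex)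
      (closure_mono ?_)
    rintro σ ⟨hσ, h⟩
    exact ⟨Sys.imgAt_le f s₀ hA i₀ hσ, h⟩
  have hne : R₀ ≠ ⊥ := by
    obtain ⟨A, hA, hne⟩ := s₀.exists_imgAt_ne f d
    exact fun h => hne (le_bot_iff.1 ((Sys.imgAt_le f s₀ hA i₀).trans h.le))
  obtain ⟨σ, hσ⟩ := exists_conj_pairs hm (by omega) hPp hPi hnorm hRP hgen hne
  have s := s₀.twist hmdl σ
  have hR : imgAt (fun i => (MulAut.conj σ).toMonoidHom.comp (π₀ i)) (jT 2 (T : Subgroup G)) i₀ =
      pairsSub m := by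
    rw [imgAt_twist]; exact hσ
  obtain ⟨hc, hnat, hframe⟩ := Sys.result f s hR (perm_good hm2 hn) d hr
  refine Or.inr ⟨rfl, k, m, r, E, _, hk, by omega, hc, fun i => ?_, hframe⟩
  obtain ⟨χ, hsur, hker, hact⟩ := hnat i
  refine ⟨(AddMonoidHom.toMultiplicative (evenV (2 * m + 1)).subtype).comp χ,
    fun u => (Multiplicative.toAdd (χ u)).2, fun v hv => ?_, fun u => ?_, fun g u => ?_⟩
  · obtain ⟨u, hu⟩ := hsur (Multiplicative.ofAdd (⟨v, hv⟩ : ↥(evenV (2 * m + 1))))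
    exact ⟨u, by
      show ((Multiplicative.toAdd (χ u) : ↥(evenV (2 * m + 1))) : Fin (2 * m + 1) → ZMod 2) = v
      rw [hu]; rfl⟩
  · rw [← hker u]
    show Multiplicative.ofAdd ((Multiplicative.toAdd (χ u) : ↥(evenV (2 * m + 1))) :
      Fin (2 * m + 1) → ZMod 2) = 1 ↔ χ u = 1
    rw [ofAdd_eq_one, ZeroMemClass.coe_eq_zero, toAdd_eq_zero]
  · obtain ⟨v, hv, hva⟩ := hact g u
    refine ⟨v, hv, fun i => ?_⟩
    show (Multiplicative.toAdd (χ v)).1 i = _
    rw [hva]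
    rfl

end H75.PMC
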