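import Cfsg.Agent.H75.PMComps.Fixed

/-!
The even permutation module and elementary abelian groups acting on it.
-/

set_option autoImplicit false
set_option linter.unusedSectionVars false
set_option linter.style.haveILetI false

open Subgroup

namespace H75.PMC

open Equiv (swap)

variable {n : ℕ}

/-- The vectors of even weight. -/
def evenV (n : ℕ) : AddSubgroup (Fin n → ZMod 2) where
  carrier := {v | ∑ i, v i = 0}
  zero_mem' := by simp
  add_mem' := fun {v w} hv hw => by
    show ∑ i, (v + w) i = 0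
    simp only [Pi.add_apply, Finset.sum_add_distrib, show ∑ i, v i = 0 from hv,
      show ∑ i, w i = 0 from hw, add_zero]
  neg_mem' := fun {v} hv => by
    show ∑ i, (-v) i = 0
    simp only [Pi.neg_apply, Finset.sum_neg_distrib, show ∑ i, v i = 0 from hv, neg_zero]

/-- Permutations of the coordinates. -/
def permAct (σ : Equiv.Perm (Fin n)) (v : ↥(evenV n)) : ↥(evenV n) :=
  ⟨fun i => v.1 (σ⁻¹ i), by
    show ∑ i, v.1 (σ⁻¹ i) = 0
    rw [Equiv.sum_comp σ⁻¹ v.1]; exact v.2⟩

theorem permAct_apply (σ : Equiv.Perm (Fin n)) (v : ↥(evenV n)) (i : Fin n) :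
    (permAct σ v).1 i = v.1 (σ⁻¹ i) := rfl

/-- The vector with support `{a, b}`. -/
def dd (a b : Fin n) : ↥(evenV n) :=
  ⟨Pi.single a 1 + Pi.single b 1, by
    show ∑ i, (Pi.single a 1 + Pi.single b 1 : Fin n → ZMod 2) i = 0
    simp [Finset.sum_add_distrib, CharTwo.add_self_eq_zero]⟩

theorem dd_apply (a b x : Fin n) :
    (dd a b).1 x = (if x = a then 1 else 0) + (if x = b then 1 else 0) := by
  show (Pi.single a 1 + Pi.single b 1 : Fin n → ZMod 2) x = _
  rw [Pi.add_apply, Pi.single_apply, Pi.single_apply]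

theorem dd_self (a : Fin n) : dd a a = 0 :=
  Subtype.ext (funext fun x => by rw [dd_apply]; exact CharTwo.add_self_eq_zero _)

theorem dd_comm (a b : Fin n) : dd a b = dd b a :=
  Subtype.ext (add_comm _ _)

theorem dd_trans (a b c : Fin n) : dd a b + dd b c = dd a c := by
  refine Subtype.ext (funext fun x => ?_)
  rw [AddSubgroup.coe_add, Pi.add_apply, dd_apply, dd_apply, dd_apply]
  linear_combination CharTwo.add_self_eq_zero (if x = b then (1 : ZMod 2) else 0)

theorem evenV_add_self (v : ↥(evenV n)) : v + v = 0 :=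
  Subtype.ext (funext fun _ => CharTwo.add_self_eq_zero _)

theorem permAct_dd (σ : Equiv.Perm (Fin n)) (a b : Fin n) :
    permAct σ (dd a b) = dd (σ a) (σ b) := by
  refine Subtype.ext (funext fun x => ?_)
  rw [permAct_apply, dd_apply, dd_apply]
  simp only [Equiv.Perm.inv_eq_iff_eq]

theorem dd_eq {a b x y : Fin n} (hab : a ≠ b) (h : dd a b = dd x y) :
    (x = a ∧ y = b) ∨ (x = b ∧ y = a) := by
  have hev : ∀ z, (dd a b).1 z = (dd x y).1 z := fun z => by rw [h]
  have ha := hev a
  have hb := hev b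
  rw [dd_apply, dd_apply, if_pos rfl, if_neg hab] at ha
  rw [dd_apply, dd_apply, if_pos rfl, if_neg (Ne.symm hab)] at hb
  split_ifs at ha hb <;> simp_all [CharTwo.add_self_eq_zero]

theorem dd_ne_zero {a b : Fin n} (hab : a ≠ b) : dd a b ≠ 0 := by
  intro h
  have := congrArg (fun v : ↥(evenV n) => v.1 a) h
  simp [dd_apply, hab] at this

/-- Vectors agreeing off one point are equal. -/
theorem ext_off {L : Fin n} {v w : ↥(evenV n)} (h : ∀ x, x ≠ L → v.1 x = w.1 x) : v = w := by
  refine Subtype.ext (funext fun x => ?_)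
  by_cases hx : x = L
  · subst hx
    have h1 : ∑ i, v.1 i = ∑ i, w.1 i := v.2.trans w.2.symm
    rw [← Finset.add_sum_erase _ _ (Finset.mem_univ x), ← Finset.add_sum_erase _ _ (Finset.mem_univ x),
      Finset.sum_congr rfl fun i hi => h i (Finset.ne_of_mem_erase hi)] at h1
    exact add_right_cancel h1
  · exact h x hx

/-- The vectors `dd x L` span. -/
theorem span_dd (L : Fin n) {X : AddSubgroup ↥(evenV n)} (h : ∀ x, dd x L ∈ X) (v : ↥(evenV n)) :
    v ∈ X := by
  classical
  have key : v = ∑ x ∈ Finset.univ.filter (fun x => v.1 x = 1), dd x L := by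
    refine ext_off (L := L) fun y hy => ?_
    rw [AddSubgroup.val_finsetSum, Finset.sum_apply]
    simp only [dd_apply, if_neg hy, add_zero]
    rw [Finset.sum_ite_eq]
    by_cases hv : v.1 y = 1
    · simp [hv]
    · rw [if_neg (by simp [hv])]
      exact (show ∀ z : ZMod 2, z ≠ 1 → z = 0 by decide) _ hv
  rw [key]
  exact sum_mem fun x _ => h x

theorem permAct_mdl (hn : 3 ≤ n) : Mdl (permAct (n := n)) where
  one v := rfl
  mul k l v := rfl
  add k v w := rfl
  faith k l h := by
    refine Equiv.ext fun x => ?_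
    by_contra hne
    have key : ∀ c, c ≠ x → l c = k x := by
      intro c hc
      have h1 := h (dd x c)
      rw [permAct_dd, permAct_dd] at h1
      rcases dd_eq (fun he => hc (k.injective he).symm) h1 with ⟨h2, -⟩ | ⟨-, h3⟩
      · exact absurd h2.symm hne
      · exact h3
    obtain ⟨c, hc, c', hc', hcc⟩ : ∃ c, c ≠ x ∧ ∃ c', c' ≠ x ∧ c ≠ c' := by
      have h2 : 1 < ((Finset.univ : Finset (Fin n)).erase x).card := by
        rw [Finset.card_erase_of_mem (Finset.mem_univ x), Finset.card_univ, Fintype.card_fin]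
        omega
      obtain ⟨c, hc, c', hc', hne'⟩ := Finset.one_lt_card.1 h2
      exact ⟨c, Finset.ne_of_mem_erase hc, c', Finset.ne_of_mem_erase hc', hne'⟩
    exact hcc (l.injective ((key c hc).trans (key c' hc').symm))

theorem card_evenV (L : Fin n) : Nat.card ↥(evenV n) * 2 = 2 ^ n := by
  classical
  have h : ↥(evenV n) × ZMod 2 ≃ (Fin n → ZMod 2) :=
    { toFun := fun q => q.1.1 + Pi.single L q.2
      invFun := fun w => (⟨w - Pi.single L (∑ i, w i), by
        show ∑ i, (w - Pi.single L (∑ j, w j) : Fin n → ZMod 2) i = 0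
        simp [Finset.sum_sub_distrib]⟩, ∑ i, w i)
      left_inv := fun q => by
        have h1 : ∑ i, (q.1.1 + Pi.single L q.2 : Fin n → ZMod 2) i = q.2 := by
          simp [Finset.sum_add_distrib, show ∑ i, q.1.1 i = 0 from q.1.2]
        refine Prod.ext (Subtype.ext ?_) h1
        show q.1.1 + Pi.single L q.2 - Pi.single L (∑ i, (q.1.1 + Pi.single L q.2 : Fin n → ZMod 2) i) = q.1.1
        rw [h1, add_sub_cancel_right]
      right_inv := fun w => sub_add_cancel _ _ }
  have h1 := Nat.card_congr h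
  rwa [Nat.card_prod, Nat.card_zmod, Nat.card_fun, Nat.card_zmod, Nat.card_fin] at h1

theorem two_mul_le {s : ℕ} (hs : 1 ≤ s) : 2 * s ≤ 2 ^ s ∧ (2 ^ s ≤ 2 * s → s ≤ 2) := by
  induction s, hs using Nat.le_induction with
  | base => simp
  | succ s hs ih =>
    rcases Nat.lt_or_ge s 2 with h | h
    · interval_cases s; simp
    · have h4 : 4 ≤ 2 ^ s := le_trans (by norm_num) (Nat.pow_le_pow_right (by norm_num) h)
      refine ⟨by rw [pow_succ]; omega, fun h' => ?_⟩
      rw [pow_succ] at h'
      omega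

/-- An elementary abelian group fixing a point is no over-offender, and exact ones are generated by
their transpositions. -/
theorem perm_bound (hn : 3 ≤ n) {a : Subgroup (Equiv.Perm (Fin n))}
    (ha : ∀ g ∈ a, ∀ h ∈ a, g * h = h * g) {L : Fin n} (hL : ∀ g ∈ a, g L = L) :
    Nat.card a * Nat.card (fixW (permAct_mdl hn) a) ≤ Nat.card ↥(evenV n) ∧
      (Nat.card a * Nat.card (fixW (permAct_mdl hn) a) = Nat.card ↥(evenV n) →
        a ≤ closure {σ | σ ∈ a ∧ ∃ x y, x ≠ y ∧ σ = swap x y}) := by
  classical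
  let Q := MulAction.orbitRel.Quotient a (Fin n)
  let q : Fin n → Q := fun x => Quotient.mk'' x
  let O : Q → Set (Fin n) := fun ω => MulAction.orbit a ω.out
  haveI : Fintype Q := Fintype.ofFinite Q
  have hcov : ∀ x, ∃ k : a, (k : Equiv.Perm (Fin n)) (q x).out = x := fun x => by
    have h : x ∈ MulAction.orbit a (q x).out :=
      MulAction.orbit_eq_iff.1 ((MulAction.orbit_eq_iff.2
        (Quotient.mk_out (s := MulAction.orbitRel a (Fin n)) x)).symm)
    exact h
  let e : a → ∀ ω, O ω := fun g ω => ⟨(g : Equiv.Perm (Fin n)) ω.out, g, rfl⟩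
  have he : Function.Injective e := by
    intro g g' h
    refine Subtype.ext (Equiv.ext fun x => ?_)
    obtain ⟨k, hk⟩ := hcov x
    have h1 : (g : Equiv.Perm (Fin n)) (q x).out = (g' : Equiv.Perm (Fin n)) (q x).out :=
      congrArg Subtype.val (congrFun h (q x))
    rw [← hk, ← Equiv.Perm.mul_apply, ← Equiv.Perm.mul_apply, ha _ g.2 _ k.2, ha _ g'.2 _ k.2,
      Equiv.Perm.mul_apply, Equiv.Perm.mul_apply, h1]
  let φ : fixW (permAct_mdl hn) a × ZMod 2 → (Q → ZMod 2) := fun u ω =>
    u.1.1.1 ω.out + if ω = q L then u.2 else 0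
  have hconst : ∀ (v : fixW (permAct_mdl hn) a) x, v.1.1 x = v.1.1 (q x).out := by
    intro v x
    obtain ⟨k, hk⟩ := hcov x
    have h1 := congrArg (fun w : ↥(evenV n) => w.1 x) (v.2 _ k.2)
    simp only [permAct_apply] at h1
    rw [← h1]
    congr 1
    rw [show ((k : Equiv.Perm (Fin n))⁻¹) x = (q x).out from (Equiv.symm_apply_eq _).2 hk.symm]
  have hLout : ∀ x, q x = q L → x = L := by
    intro x hx
    obtain ⟨k, hk⟩ := hcov x
    obtain ⟨l, hl⟩ := hcov L
    have h1 : (q L).out = L := by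
      have h2 := hL _ l.2
      rw [← Equiv.Perm.inv_eq_iff_eq.2 hl.symm, Equiv.Perm.inv_eq_iff_eq, h2]
    rw [hx, h1, hL _ k.2] at hk
    exact hk.symm
  have hφ : Function.Injective φ := by
    rintro ⟨v, c⟩ ⟨v', c'⟩ h
    have hv : v = v' := by
      refine Subtype.ext (ext_off (L := L) fun x hx => ?_)
      have h1 := congrFun h (q x)
      simp only [φ, if_neg (fun he => hx (hLout x he)), add_zero] at h1
      rw [hconst v x, hconst v' x, h1]
    subst hv
    refine Prod.ext rfl ?_
    have h1 := congrFun h (q L)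
    simp only [φ, if_true] at h1
    exact add_left_cancel h1
  have c1 : Nat.card a ≤ ∏ ω, Nat.card (O ω) := by
    rw [← Nat.card_pi]; exact Nat.card_le_card_of_injective e he
  have c2 : Nat.card (fixW (permAct_mdl hn) a) * 2 ≤ ∏ _ω : Q, 2 := by
    rw [Finset.prod_const, Finset.card_univ, ← Nat.card_eq_fintype_card]
    have := Nat.card_le_card_of_injective φ hφ
    rwa [Nat.card_prod, Nat.card_zmod, Nat.card_fun, Nat.card_zmod] at this
  have hsum : n = ∑ ω, Nat.card (O ω) := by
    rw [← Nat.card_sigma, ← Nat.card_congr (MulAction.selfEquivSigmaOrbits a (Fin n)), Nat.card_fin]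
  have hO : ∀ ω, 1 ≤ Nat.card (O ω) := fun ω => by
    haveI : Nonempty (O ω) := ⟨⟨ω.out, MulAction.mem_orbit_self _⟩⟩
    exact Nat.card_pos
  have c3 : ∏ ω, 2 * Nat.card (O ω) ≤ 2 ^ n := by
    conv_rhs => rw [hsum, ← Finset.prod_pow_eq_pow_sum]
    exact Finset.prod_le_prod' fun ω _ => (two_mul_le (hO ω)).1
  have c4 : Nat.card a * Nat.card (fixW (permAct_mdl hn) a) * 2 ≤ ∏ ω, 2 * Nat.card (O ω) := by
    rw [mul_assoc, Finset.prod_mul_distrib, mul_comm (∏ _ω : Q, 2)]
    exact Nat.mul_le_mul c1 c2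
  rw [← Nat.mul_le_mul_right_iff two_pos, card_evenV L]
  refine ⟨c4.trans c3, fun heq => ?_⟩
  have heq' : Nat.card a * Nat.card (fixW (permAct_mdl hn) a) * 2 = 2 ^ n := by
    rw [heq, card_evenV L]
  have hsmall : ∀ ω, Nat.card (O ω) ≤ 2 := by
    intro ω
    by_contra hbig
    have h1 : ∏ ω, 2 * Nat.card (O ω) < 2 ^ n := by
      conv_rhs => rw [hsum, ← Finset.prod_pow_eq_pow_sum]
      exact Finset.prod_lt_prod (fun ω _ => Nat.mul_pos two_pos (hO ω))
        (fun ω _ => (two_mul_le (hO ω)).1)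
        ⟨ω, Finset.mem_univ _, lt_of_not_ge fun h => hbig ((two_mul_le (hO ω)).2 h)⟩
    omega
  have hcard : Nat.card a = Nat.card (∀ ω, O ω) := by
    refine le_antisymm (Nat.card_le_card_of_injective e he) ?_
    rw [Nat.card_pi]
    refine Nat.le_of_mul_le_mul_right (c := Nat.card (fixW (permAct_mdl hn) a) * 2) ?_
      (Nat.mul_pos Nat.card_pos two_pos)
    calc (∏ ω, Nat.card (O ω)) * (Nat.card (fixW (permAct_mdl hn) a) * 2)
        ≤ (∏ ω, Nat.card (O ω)) * ∏ _ω : Q, 2 := Nat.mul_le_mul_left _ c2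
      _ = ∏ ω, 2 * Nat.card (O ω) := by rw [Finset.prod_mul_distrib, mul_comm]
      _ ≤ 2 ^ n := c3
      _ = _ := by rw [← heq', mul_assoc]
  have hsurj : Function.Surjective e := (he.bijective_of_nat_card_le hcard.ge).2
  -- induction on the moved points
  intro g hg
  induction hm : (Finset.univ.filter fun x => g x ≠ x).card using Nat.strong_induction_on
    generalizing g with
  | _ k ih =>
  by_cases h1 : ∀ x, g x = x
  · rw [show g = 1 from Equiv.ext h1]; exact one_mem _
  push Not at h1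
  obtain ⟨x, hx⟩ := h1
  set ω := q x with hω
  set o := ω.out with ho
  have hgo : g o ≠ o := by
    intro h
    obtain ⟨l, hl⟩ := hcov x
    refine hx ?_
    rw [← hl, ← Equiv.Perm.mul_apply, ha _ hg _ l.2, Equiv.Perm.mul_apply]
    exact congrArg _ h
  have hOω : ∀ y ∈ O ω, y = o ∨ y = g o := by
    intro y hy
    by_contra hcon
    push Not at hcon
    have h3 : ({o, g o, y} : Finset (Fin n)).card = 3 := by
      rw [Finset.card_insert_of_notMem (by simp [hgo.symm, Ne.symm hcon.1]),
        Finset.card_pair (Ne.symm hcon.2)]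
    have h4 : ({o, g o, y} : Finset (Fin n)).card ≤ Nat.card (O ω) := by
      rw [← Nat.card_eq_finsetCard]
      refine Nat.card_le_card_of_injective (fun z => (⟨z.1, ?_⟩ : O ω))
        fun z z' h => Subtype.ext (by simpa using h)
      have hz := z.2
      simp only [Finset.mem_insert, Finset.mem_singleton] at hz
      rcases hz with h | h | h <;> rw [h]
      · exact MulAction.mem_orbit_self _
      · exact ⟨⟨g, hg⟩, rfl⟩
      · exact hy
    have := hsmall ω
    omega
  obtain ⟨h, hh⟩ := hsurj fun ω' => if hω' : ω' = ω then ⟨g ω'.out, ⟨g, hg⟩, rfl⟩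
    else ⟨ω'.out, MulAction.mem_orbit_self _⟩
  have hho : (h : Equiv.Perm (Fin n)) o = g o := by
    have := congrArg Subtype.val (congrFun hh ω)
    rwa [dif_pos rfl] at this
  have hgg : g (g o) = o := by
    rcases hOω (g (g o)) ⟨⟨g, hg⟩ * ⟨g, hg⟩, rfl⟩ with h' | h'
    · exact h'
    · exact absurd (g.injective h') hgo
  have hhswap : (h : Equiv.Perm (Fin n)) = swap o (g o) := by
    refine Equiv.ext fun y => ?_
    by_cases hy1 : y = o
    · subst hy1; rw [hho, Equiv.swap_apply_left]
    by_cases hy2 : y = g o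
    · subst hy2
      rw [Equiv.swap_apply_right, ← Equiv.Perm.mul_apply, ha _ h.2 _ hg, Equiv.Perm.mul_apply, hho,
        hgg]
    rw [Equiv.swap_apply_of_ne_of_ne hy1 hy2]
    obtain ⟨l, hl⟩ := hcov y
    have hne : q y ≠ ω := fun he => by
      rcases hOω y (by rw [← he]; exact ⟨l, hl⟩) with h' | h'
      · exact hy1 h'
      · exact hy2 h'
    have h2 : (h : Equiv.Perm (Fin n)) (q y).out = (q y).out := by
      have := congrArg Subtype.val (congrFun hh (q y))
      rwa [dif_neg hne] at this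
    conv_lhs => rw [← hl, ← Equiv.Perm.mul_apply, ha _ h.2 _ l.2, Equiv.Perm.mul_apply, h2]
    exact hl
  have hhmem : (h : Equiv.Perm (Fin n)) ∈ closure {σ | σ ∈ a ∧ ∃ x y, x ≠ y ∧ σ = swap x y} :=
    subset_closure ⟨h.2, o, g o, Ne.symm hgo, hhswap⟩
  have hfix : ∀ y, g y = y → ((h : Equiv.Perm (Fin n)) * g) y = y := by
    intro y hy
    rw [Equiv.Perm.mul_apply, hy, hhswap, Equiv.swap_apply_of_ne_of_ne]
    · intro he; subst he; exact hgo hy
    · intro he; subst he; rw [hgg] at hy; exact hgo hy.symm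
  have hfo : ((h : Equiv.Perm (Fin n)) * g) o = o := by
    rw [Equiv.Perm.mul_apply, hhswap, Equiv.swap_apply_right]
  have hlt : (Finset.univ.filter fun y => ((h : Equiv.Perm (Fin n)) * g) y ≠ y).card < k := by
    rw [← hm]
    refine Finset.card_lt_card ((Finset.ssubset_iff_of_subset fun y hy => ?_).2 ⟨o, ?_, ?_⟩)
    · simp only [Finset.mem_filter, Finset.mem_univ, true_and] at hy ⊢
      exact fun he => hy (hfix y he)
    · simp [hgo]
    · simp only [Finset.mem_filter, Finset.mem_univ, true_and, not_not]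
      exact hfo
  have := mul_mem (inv_mem hhmem) (ih _ hlt (mul_mem h.2 hg) rfl)
  rwa [inv_mul_cancel_left] at this

end H75.PMC
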