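import Cfsg.Agent.H75.PMComps.PermMdl
import Mathlib.GroupTheory.Perm.Fin

/-!
The group of the pairs, and groups generated by transpositions inside a Sylow 2-subgroup.
-/

set_option autoImplicit false
set_option linter.unusedSectionVars false
set_option linter.style.haveILetI false

open Subgroup

namespace H75.PMC

open Equiv (swap)
open H80.PM (pairsSub)

variable {m : ℕ}

/-- The first point of a pair. -/
abbrev lo (j : Fin m) : Fin (2 * m + 1) := ⟨2 * j.1, by omega⟩
/-- The second point of a pair. -/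
abbrev hi (j : Fin m) : Fin (2 * m + 1) := ⟨2 * j.1 + 1, by omega⟩
/-- The point outside the pairs. -/
abbrev lastPt (m : ℕ) : Fin (2 * m + 1) := ⟨2 * m, by omega⟩

theorem lo_ne_hi (j : Fin m) : lo j ≠ hi j := fun h => by simp at h

theorem point_cases (x : Fin (2 * m + 1)) : x = lastPt m ∨ ∃ j : Fin m, x = lo j ∨ x = hi j := by
  rcases Nat.lt_or_ge x.1 (2 * m) with h | h
  · refine Or.inr ⟨⟨x.1 / 2, by omega⟩, ?_⟩
    rcases Nat.mod_two_eq_zero_or_one x.1 with h2 | h2
    · exact Or.inl (Fin.ext (show x.1 = 2 * (x.1 / 2) by omega))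
    · exact Or.inr (Fin.ext (show x.1 = 2 * (x.1 / 2) + 1 by omega))
  · exact Or.inl (Fin.ext (show x.1 = 2 * m by omega))

theorem swap_mem_pairsSub (j : Fin m) : swap (lo j) (hi j) ∈ pairsSub m :=
  subset_closure ⟨j, rfl⟩

theorem pairs_fix_last {σ : Equiv.Perm (Fin (2 * m + 1))} (hσ : σ ∈ pairsSub m) :
    σ (lastPt m) = lastPt m := by
  induction hσ using Subgroup.closure_induction with
  | mem g hg =>
    obtain ⟨j, rfl⟩ := hg
    refine Equiv.swap_apply_of_ne_of_ne ?_ ?_ <;> simp [Fin.ext_iff] <;> omega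
  | one => rfl
  | mul a b _ _ ia ib => rw [Equiv.Perm.mul_apply, ib, ia]
  | inv a _ ia => exact (Equiv.Perm.inv_eq_iff_eq).2 ia.symm

theorem pairs_comm : ∀ a ∈ pairsSub m, ∀ b ∈ pairsSub m, a * b = b * a := by
  have hgen : ∀ i j : Fin m, swap (lo i) (hi i) * swap (lo j) (hi j) =
      swap (lo j) (hi j) * swap (lo i) (hi i) := by
    intro i j
    by_cases h : i = j
    · rw [h]
    · refine Equiv.Perm.Disjoint.commute (fun x => ?_)
      by_cases hx : x = lo i ∨ x = hi i
      · right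
        refine Equiv.swap_apply_of_ne_of_ne ?_ ?_ <;> rcases hx with rfl | rfl <;>
          simp [Fin.ext_iff] <;> have := Fin.val_injective.ne h <;> omega
      · left
        push Not at hx
        exact Equiv.swap_apply_of_ne_of_ne hx.1 hx.2
  haveI : IsMulCommutative (pairsSub m) := Subgroup.isMulCommutative_closure (by
    rintro _ ⟨i, rfl⟩ _ ⟨j, rfl⟩
    exact hgen i j)
  intro a ha b hb
  exact congrArg Subtype.val (mul_comm' (⟨a, ha⟩ : pairsSub m) ⟨b, hb⟩)

/-- Permutations preserving every pair are products of pair transpositions. -/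
theorem mem_pairsSub_of {σ : Equiv.Perm (Fin (2 * m + 1))} (hL : σ (lastPt m) = lastPt m)
    (hp : ∀ j, σ (lo j) = lo j ∨ σ (lo j) = hi j) (hq : ∀ j, σ (hi j) = lo j ∨ σ (hi j) = hi j) :
    σ ∈ pairsSub m := by
  classical
  induction hc : (Finset.univ.filter fun x => σ x ≠ x).card using Nat.strong_induction_on
    generalizing σ with
  | _ k ih =>
  by_cases h1 : ∀ x, σ x = x
  · rw [show σ = 1 from Equiv.ext h1]; exact one_mem _
  push Not at h1
  obtain ⟨x, hx⟩ := h1
  obtain ⟨j, hlj⟩ : ∃ j, σ (lo j) = hi j := by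
    rcases point_cases x with rfl | ⟨j, rfl | rfl⟩
    · exact absurd hL hx
    · exact ⟨j, (hp j).resolve_left hx⟩
    · refine ⟨j, (hp j).resolve_left fun h => ?_⟩
      have h2 := (hq j).resolve_right hx
      exact lo_ne_hi j (σ.injective (h.trans h2.symm))
  have hhj : σ (hi j) = lo j := (hq j).resolve_right fun h =>
    lo_ne_hi j (σ.injective (hlj.trans h.symm))
  set τ := swap (lo j) (hi j) * σ with hτ
  have hτlo : τ (lo j) = lo j := by rw [hτ, Equiv.Perm.mul_apply, hlj, Equiv.swap_apply_right]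
  have hτhi : τ (hi j) = hi j := by rw [hτ, Equiv.Perm.mul_apply, hhj, Equiv.swap_apply_left]
  have hτne : ∀ y, y ≠ lo j → y ≠ hi j → τ y = σ y := fun y h1 h2 => by
    rw [hτ, Equiv.Perm.mul_apply, Equiv.swap_apply_of_ne_of_ne
      (fun h => h2 (σ.injective (h.trans hhj.symm))) fun h => h1 (σ.injective (h.trans hlj.symm))]
  have hne : ∀ i, i ≠ j → lo i ≠ lo j ∧ lo i ≠ hi j ∧ hi i ≠ lo j ∧ hi i ≠ hi j := fun i hij => by
    have := Fin.val_injective.ne hij
    refine ⟨?_, ?_, ?_, ?_⟩ <;> simp [Fin.ext_iff] <;> omega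
  have hmem : τ ∈ pairsSub m := by
    refine ih _ ?_ ?_ (fun i => ?_) (fun i => ?_) rfl
    · rw [← hc]
      refine Finset.card_lt_card ((Finset.ssubset_iff_of_subset fun y hy => ?_).2 ⟨lo j, ?_, ?_⟩)
      · simp only [Finset.mem_filter, Finset.mem_univ, true_and] at hy ⊢
        rw [hτne y (fun h => hy (h ▸ hτlo)) fun h => hy (h ▸ hτhi)] at hy
        exact hy
      · simp only [Finset.mem_filter, Finset.mem_univ, true_and, hlj]
        exact (lo_ne_hi j).symm
      · simp [hτlo]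
    · rw [hτne _ (by simp [Fin.ext_iff]; omega) (by simp [Fin.ext_iff]; omega), hL]
    · by_cases hij : i = j
      · subst hij; exact Or.inl hτlo
      · rw [hτne _ (hne i hij).1 (hne i hij).2.1]; exact hp i
    · by_cases hij : i = j
      · subst hij; exact Or.inr hτhi
      · rw [hτne _ (hne i hij).2.2.1 (hne i hij).2.2.2]; exact hq i
  have := mul_mem (inv_mem (swap_mem_pairsSub j)) hmem
  rwa [hτ, inv_mul_cancel_left] at this

/-- In a 2-group two transpositions through one point are equal. -/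
theorem swap_unique {n : ℕ} {R : Subgroup (Equiv.Perm (Fin n))} (hR : IsPGroup 2 R) {a b c : Fin n}
    (hab : a ≠ b) (hac : a ≠ c) (h1 : swap a b ∈ R) (h2 : swap a c ∈ R) : b = c := by
  by_contra hbc
  obtain ⟨k, hk⟩ := hR ⟨swap a b * swap a c, mul_mem h1 h2⟩
  have hk' : (swap a b * swap a c) ^ 2 ^ k = 1 := by simpa using congrArg Subtype.val hk
  have h3 : Equiv.Perm.IsThreeCycle (swap a b * swap a c) :=
    Equiv.Perm.isThreeCycle_swap_mul_swap_same hab hac hbc
  have h4 := h3.orderOf ▸ orderOf_dvd_of_pow_eq_one hk'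
  exact absurd (Nat.prime_three.dvd_of_dvd_pow h4) (by norm_num)

/-- A group generated by transpositions in a Sylow 2-subgroup is conjugate to the group of pairs. -/
theorem exists_conj_pairs {k : ℕ} (hm : 2 * m = 2 ^ k) (hk : 1 ≤ k)
    {R P : Subgroup (Equiv.Perm (Fin (2 * m + 1)))} (hP : IsPGroup 2 P)
    (hPc : ¬ 2 ∣ P.index) (hnorm : ∀ g ∈ P, ∀ x ∈ R, g * x * g⁻¹ ∈ R) (hRP : R ≤ P)
    (hgen : R ≤ closure {σ | σ ∈ R ∧ ∃ x y, x ≠ y ∧ σ = swap x y}) (hne : R ≠ ⊥) :
    ∃ σ, R.map (MulAut.conj σ).toMonoidHom = pairsSub m := by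
  classical
  haveI : Fact (Nat.Prime 2) := ⟨Nat.prime_two⟩
  have hR : IsPGroup 2 R := hP.to_le hRP
  -- a fixed point of `P`
  obtain ⟨L, hL⟩ : ∃ L, ∀ g ∈ P, g L = L := by
    obtain ⟨L, hL⟩ := hP.nonempty_fixed_point_of_prime_not_dvd_card (Fin (2 * m + 1))
      (by rw [Nat.card_fin]; omega)
    exact ⟨L, fun g hg => hL ⟨g, hg⟩⟩
  -- `P` is transitive on the other points
  obtain ⟨L', c, hcyc, hc2⟩ : ∃ (L' : Fin (2 * m + 1)) (c : Equiv.Perm (Fin (2 * m + 1))),
      (∀ x y, x ≠ L' → y ≠ L' → ∃ i : ℕ, (c ^ i) x = y) ∧ c ^ 2 ^ k = 1 := by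
    have h2m : 2 ≤ 2 * m := hm ▸ Nat.le_self_pow (by omega) 2
    set b : Fin (2 * m + 1) := ⟨2 * m - 1, by omega⟩ with hb
    set c := Fin.cycleRange b
    have hb0 : b ≠ 0 := by simp [hb, Fin.ext_iff]; omega
    refine ⟨lastPt m, c, ?_, ?_⟩
    · have h0 : ∀ i : ℕ, ∀ hi : i < 2 * m, (c ^ i) 0 = ⟨i, by omega⟩ := by
        intro i
        induction i with
        | zero => intro _; rfl
        | succ i ih =>
          intro hi
          rw [pow_succ', Equiv.Perm.mul_apply, ih (by omega),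
            Fin.cycleRange_of_lt (show (⟨i, by omega⟩ : Fin (2 * m + 1)) < b by
              simp [hb, Fin.lt_def]; omega)]
          exact Fin.ext (by simp [Fin.val_add, Nat.mod_eq_of_lt (show i + 1 < 2 * m + 1 by omega)])
      intro x y hx hy
      have hxl : x.1 < 2 * m := by
        have h' : x.1 ≠ 2 * m := fun h => hx (Fin.ext h); omega
      have hyl : y.1 < 2 * m := by
        have h' : y.1 ≠ 2 * m := fun h => hy (Fin.ext h); omega
      have hper : (c ^ (2 * m)) 0 = 0 := by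
        calc (c ^ (2 * m)) 0 = c ((c ^ (2 * m - 1)) 0) := by
              rw [← Equiv.Perm.mul_apply, ← pow_succ', Nat.sub_add_cancel (by omega)]
          _ = 0 := by rw [h0 _ (by omega)]; exact Fin.cycleRange_of_eq rfl
      refine ⟨y.1 + (2 * m - x.1), ?_⟩
      calc (c ^ (y.1 + (2 * m - x.1))) x
          = (c ^ (y.1 + (2 * m - x.1))) ((c ^ x.1) 0) := congrArg _ (h0 _ hxl).symm
        _ = y := by
          rw [← Equiv.Perm.mul_apply, ← pow_add,
            show y.1 + (2 * m - x.1) + x.1 = y.1 + 2 * m by omega, pow_add, Equiv.Perm.mul_apply,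
            hper, h0 _ hyl]
    · rw [← hm]
      have h := pow_orderOf_eq_one c
      rwa [← Equiv.Perm.lcm_cycleType, Fin.cycleType_cycleRange hb0, Multiset.lcm_singleton,
        normalize_eq, show (b : ℕ) + 1 = 2 * m by simp [hb]; omega] at h
  let S : Sylow 2 (Equiv.Perm (Fin (2 * m + 1))) := hP.toSylow hPc
  obtain ⟨S', hS'⟩ := ((IsPGroup.iff_card (G := Subgroup.zpowers c)).2 (by
    obtain ⟨i, -, hi⟩ := (Nat.dvd_prime_pow Nat.prime_two).1 (orderOf_dvd_of_pow_eq_one hc2)
    exact ⟨i, by rw [Nat.card_zpowers, hi]⟩) : IsPGroup 2 _).exists_le_sylow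
  obtain ⟨g, hg⟩ := MulAction.exists_smul_eq (Equiv.Perm (Fin (2 * m + 1))) S' S
  have hcP : g * c * g⁻¹ ∈ P := by
    show g * c * g⁻¹ ∈ (S : Subgroup _)
    rw [← hg, Sylow.coe_subgroup_smul, Subgroup.mem_pointwise_smul_iff_inv_smul_mem]
    simpa [MulAut.smul_def, mul_assoc] using hS' (mem_zpowers c)
  have htrans : ∀ x y, x ≠ L → y ≠ L → ∃ h ∈ P, h x = y := by
    have hgL : g L' = L := by
      by_contra hne'
      obtain ⟨z, hzL, hzg⟩ : ∃ z, z ≠ L' ∧ z ≠ g⁻¹ L := by
        obtain ⟨z, -, hz⟩ := Finset.exists_mem_notMem_of_card_lt_card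
          (s := ({L', g⁻¹ L} : Finset _)) (t := Finset.univ) (by
            refine lt_of_le_of_lt Finset.card_le_two ?_
            rw [Finset.card_univ, Fintype.card_fin]
            have : 2 ≤ 2 ^ k := Nat.le_self_pow (by omega) 2
            omega)
        simp only [Finset.mem_insert, Finset.mem_singleton, not_or] at hz
        exact ⟨z, hz.1, hz.2⟩
      have hLne : g⁻¹ L ≠ L' := fun h => hne' (Equiv.Perm.inv_eq_iff_eq.1 h).symm
      obtain ⟨i, hi⟩ := hcyc (g⁻¹ L) z hLne hzL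
      have h1 := hL _ (pow_mem hcP i)
      rw [conj_pow, Equiv.Perm.mul_apply, Equiv.Perm.mul_apply, hi] at h1
      exact hzg (Equiv.Perm.inv_eq_iff_eq.2 h1.symm).symm
    intro x y hx hy
    obtain ⟨i, hi⟩ := hcyc (g⁻¹ x) (g⁻¹ y) (fun h => hx (by rw [← hgL, ← h]; simp))
      fun h => hy (by rw [← hgL, ← h]; simp)
    refine ⟨_, pow_mem hcP i, ?_⟩
    rw [conj_pow, Equiv.Perm.mul_apply, Equiv.Perm.mul_apply, hi]
    simp
  -- the partners
  obtain ⟨a, b, hab, hsw⟩ : ∃ a b, a ≠ b ∧ swap a b ∈ R := by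
    by_contra hno
    push Not at hno
    refine hne (eq_bot_iff.2 (hgen.trans ((closure_le _).2 ?_)))
    rintro σ ⟨hσ, x, y, hxy, rfl⟩
    exact absurd hσ (hno x y hxy)
  have hnotL : ∀ {x y}, x ≠ y → swap x y ∈ R → x ≠ L := by
    intro x y hxy h e
    have := hL _ (hRP h)
    rw [← e, Equiv.swap_apply_left] at this
    exact hxy this.symm
  have hex : ∀ x, x ≠ L → ∃ y, y ≠ x ∧ swap x y ∈ R := by
    intro x hx
    obtain ⟨h, hh, hha⟩ := htrans a x (hnotL hab hsw) hx
    refine ⟨h b, fun e => hab (h.injective (hha.trans e.symm)), ?_⟩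
    rw [← hha, Equiv.swap_apply_apply]
    exact hnorm h hh _ hsw
  choose! pr hpr using hex
  have hprL : ∀ x, x ≠ L → pr x ≠ L := fun x hx =>
    hnotL (hpr x hx).1 (Equiv.swap_comm x (pr x) ▸ (hpr x hx).2)
  have hprpr : ∀ x, x ≠ L → pr (pr x) = x := fun x hx => swap_unique hR
    (hpr (pr x) (hprL x hx)).1.symm (hpr x hx).1 (hpr _ (hprL x hx)).2
    (Equiv.swap_comm x (pr x) ▸ (hpr x hx).2)
  -- a transversal
  set A := Finset.univ.filter (fun x => x ≠ L ∧ x < pr x) with hA
  have hsplit : (Finset.univ.filter fun x => x ≠ L) = A ∪ A.image pr := by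
    ext x
    simp only [hA, Finset.mem_filter, Finset.mem_univ, true_and, Finset.mem_union, Finset.mem_image]
    constructor
    · intro hx
      rcases lt_or_gt_of_ne (hpr x hx).1.symm with h | h
      · exact Or.inl ⟨hx, h⟩
      · exact Or.inr ⟨pr x, ⟨hprL x hx, by rw [hprpr x hx]; exact h⟩, hprpr x hx⟩
    · rintro (⟨h, -⟩ | ⟨y, ⟨hy, -⟩, rfl⟩)
      · exact h
      · exact hprL y hy
  have hAcard : A.card = m := by
    have h1 : (Finset.univ.filter fun x => x ≠ L).card = 2 * m := by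
      rw [Finset.filter_ne', Finset.card_erase_of_mem (Finset.mem_univ L), Finset.card_univ,
        Fintype.card_fin]
      omega
    rw [hsplit, Finset.card_union_of_disjoint ?_, Finset.card_image_of_injOn ?_] at h1
    · omega
    · intro x hx y hy he
      simp only [hA, Finset.coe_filter, Finset.mem_univ, true_and, Set.mem_setOf_eq] at hx hy
      rw [← hprpr x hx.1, he, hprpr y hy.1]
    · rw [Finset.disjoint_left]
      intro x hx hx'
      simp only [hA, Finset.mem_filter, Finset.mem_univ, true_and, Finset.mem_image] at hx hx'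
      obtain ⟨y, ⟨hy, hy'⟩, rfl⟩ := hx'
      rw [hprpr y hy] at hx
      exact lt_asymm hy' hx.2
  let e := A.equivFinOfCardEq hAcard
  have heL : ∀ i, (e.symm i).1 ≠ L ∧ (e.symm i).1 < pr (e.symm i).1 := fun i => by
    exact (Finset.mem_filter.1 (e.symm i).2).2
  let fσ : Fin (2 * m + 1) → Fin (2 * m + 1) := fun x =>
    if h : x.1 < 2 * m then
      if x.1 % 2 = 0 then (e.symm ⟨x.1 / 2, by omega⟩).1 else pr (e.symm ⟨x.1 / 2, by omega⟩).1
    else L
  have hflo : ∀ j, fσ (lo j) = (e.symm j).1 := fun j => by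
    have h1 : (2 * j.1) / 2 = j.1 := by omega
    simp only [fσ, dif_pos (show (lo j).1 < 2 * m by simp), if_pos (show (lo j).1 % 2 = 0 by simp)]
    congr 2
    exact Fin.ext h1
  have hfhi : ∀ j, fσ (hi j) = pr (e.symm j).1 := fun j => by
    have h1 : (2 * j.1 + 1) / 2 = j.1 := by omega
    simp only [fσ, dif_pos (show (hi j).1 < 2 * m by simp; omega),
      if_neg (show ¬ (hi j).1 % 2 = 0 by simp)]
    congr 3
    exact Fin.ext h1
  have hfL : fσ (lastPt m) = L := dif_neg (by simp)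
  have hfsurj : Function.Surjective fσ := by
    intro y
    by_cases hy : y = L
    · exact ⟨_, hy ▸ hfL⟩
    have hmem : y ∈ A ∪ A.image pr := hsplit ▸ Finset.mem_filter.2 ⟨Finset.mem_univ y, hy⟩
    rcases Finset.mem_union.1 hmem with h | h
    · exact ⟨lo (e ⟨y, h⟩), by rw [hflo, Equiv.symm_apply_apply]⟩
    · obtain ⟨x, hx, rfl⟩ := Finset.mem_image.1 h
      exact ⟨hi (e ⟨x, hx⟩), by rw [hfhi, Equiv.symm_apply_apply]⟩
  let σ : Equiv.Perm (Fin (2 * m + 1)) :=
    Equiv.ofBijective fσ ⟨Finite.injective_iff_surjective.2 hfsurj, hfsurj⟩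
  have hσ : ∀ x, σ x = fσ x := fun _ => rfl
  refine ⟨σ⁻¹, le_antisymm ((map_mono hgen).trans ?_) ((closure_le _).2 ?_)⟩
  · rw [MonoidHom.map_closure, closure_le]
    rintro _ ⟨_, ⟨hxR, x, y, hxy, rfl⟩, rfl⟩
    show σ⁻¹ * swap x y * σ⁻¹⁻¹ ∈ pairsSub m
    rw [← Equiv.swap_apply_apply]
    obtain ⟨u, rfl⟩ := σ.surjective x
    obtain ⟨v, rfl⟩ := σ.surjective y
    simp only [Equiv.Perm.coe_inv, Equiv.symm_apply_apply]
    rcases point_cases u with rfl | ⟨j, rfl | rfl⟩
    · exact absurd ((hσ _).trans hfL) (hnotL hxy hxR)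
    · have h1 : σ v = σ (hi j) := by
        rw [hσ (hi j), hfhi]
        refine swap_unique hR hxy ?_ hxR ?_ <;> rw [hσ, hflo]
        · exact (hpr _ (heL j).1).1.symm
        · exact (hpr _ (heL j).1).2
      rw [σ.injective h1]
      exact swap_mem_pairsSub j
    · have h1 : σ v = σ (lo j) := by
        rw [hσ (lo j), hflo]
        refine swap_unique hR hxy ?_ hxR ?_ <;> rw [hσ, hfhi]
        · exact (hpr _ (heL j).1).1
        · rw [Equiv.swap_comm]; exact (hpr _ (heL j).1).2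
      rw [σ.injective h1, Equiv.swap_comm]
      exact swap_mem_pairsSub j
  · rintro _ ⟨j, rfl⟩
    refine ⟨swap (σ (lo j)) (σ (hi j)), ?_, ?_⟩
    · rw [hσ, hσ, hflo, hfhi]; exact (hpr _ (heL j).1).2
    · show σ⁻¹ * swap (σ (lo j)) (σ (hi j)) * σ⁻¹⁻¹ = _
      rw [← Equiv.swap_apply_apply]
      simp

end H75.PMC
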