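import Cfsg.Agent.H80.LCSS.Main
import Cfsg.Agent.H80.PM.Comps

/-!
Coordinates on `J(G) C_G(V)` and on `V` from the data of one component.
-/

set_option autoImplicit false
set_option linter.unusedSectionVars false
set_option linter.style.haveILetI false

open Subgroup
open scoped commutatorElement
open H70 (cj)

namespace H75.PMC

open H80.LCSS (modV cenV)
open H80.PM (nJ)

variable {G : Type*} [Group G] [Finite G] {p : ℕ} [Fact p.Prime]

/-- A family of components. -/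
structure Fam (p : ℕ) {G : Type*} [Group G] (T : Sylow p G) {r : ℕ} (E : Fin r → Subgroup G) :
    Prop where
  cen : ∀ i, cenV p G ≤ E i
  sup : (⨆ i, E i) = nJ p G
  comm : ∀ i j, i ≠ j → ⁅E i, E j⁆ ≤ cenV p G
  inter : ∀ i, E i ⊓ (⨆ j ∈ {j | j ≠ i}, E j) ≤ cenV p G
  conj : ∀ i j, ∃ t ∈ (T : Subgroup G), (E i).map (MulAut.conj t).toMonoidHom = E j
  perm : ∀ t ∈ (T : Subgroup G), ∀ i, ∃ j, (E i).map (MulAut.conj t).toMonoidHom = E j
  split : (modV p G ⊓ centralizer ((⨆ i, E i : Subgroup G) : Set G)) ⊔ (⨆ i, ⁅modV p G, E i⁆) =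
    modV p G
  fix : ∀ i j, i ≠ j → ⁅⁅modV p G, E i⁆, E j⁆ = ⊥

/-- A faithful action by additive maps. -/
structure Mdl {K W : Type} [Group K] [AddCommGroup W] (act : K → W → W) : Prop where
  one : ∀ v, act 1 v = v
  mul : ∀ k l v, act (k * l) v = act k (act l v)
  add : ∀ k v w, act k (v + w) = act k v + act k w
  faith : ∀ k l, (∀ v, act k v = act l v) → k = l

namespace Mdl

variable {K W : Type} [Group K] [AddCommGroup W] {act : K → W → W} (m : Mdl act)
include m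

theorem zero (k : K) : act k 0 = 0 := by
  have h := m.add k 0 0
  rwa [add_zero, left_eq_add] at h

theorem inv_act (k : K) (v : W) : act k⁻¹ (act k v) = v := by
  rw [← m.mul, inv_mul_cancel, m.one]

theorem act_inv (k : K) (v : W) : act k (act k⁻¹ v) = v := by
  rw [← m.mul, mul_inv_cancel, m.one]

theorem inj (k : K) : Function.Injective (act k) := fun v w h => by
  rw [← m.inv_act k v, h, m.inv_act]

/-- The action of one element as an additive map. -/
def hom (k : K) : W →+ W := AddMonoidHom.mk' (act k) (m.add k)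

end Mdl

/-- The data of one component. -/
structure Base (p : ℕ) {G : Type*} [Group G] {K W : Type} [Group K] [AddCommGroup W]
    (act : K → W → W) (E₀ : Subgroup G) (ρ : ↥E₀ →* K)
    (ψ : ↥⁅modV p G, E₀⁆ →* Multiplicative W) : Prop where
  surj : Function.Surjective ρ
  ker : ∀ e : ↥E₀, ρ e = 1 ↔ (e : G) ∈ cenV p G
  psurj : Function.Surjective ψ
  pker : ∀ u : ↥⁅modV p G, E₀⁆, ψ u = 1 ↔ (u : G) ∈ centralizer (E₀ : Set G)
  equiv : ∀ (e : ↥E₀) (u w : ↥⁅modV p G, E₀⁆), (w : G) = (e : G) * (u : G) * (e : G)⁻¹ →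
    Multiplicative.toAdd (ψ w) = act (ρ e) (Multiplicative.toAdd (ψ u))

/-- Coordinates on all components. -/
structure Sys (p : ℕ) {G : Type*} [Group G] (T : Sylow p G) {r : ℕ} (E : Fin r → Subgroup G)
    {K W : Type} [Group K] [AddCommGroup W] (act : K → W → W) (i₀ : Fin r)
    (π : Fin r → (↥(nJ p G) →* K)) (co : Fin r → (↥(modV p G) →* Multiplicative W)) : Prop where
  other : ∀ i j (g : ↥(nJ p G)), (g : G) ∈ E i → j ≠ i → π j g = 1
  surjE : ∀ i k, ∃ g : ↥(nJ p G), (g : G) ∈ E i ∧ π i g = k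
  kerE : ∀ i (g : ↥(nJ p G)), (g : G) ∈ E i → π i g = 1 → (g : G) ∈ cenV p G
  cen1 : ∀ i (g : ↥(nJ p G)), (g : G) ∈ cenV p G → π i g = 1
  trans : ∀ i, ∃ t ∈ (T : Subgroup G), cj t (E i₀) = E i ∧
    (∀ g g' : ↥(nJ p G), (g' : G) = t⁻¹ * g * t → π i g = π i₀ g') ∧
    ∀ v v' : ↥(modV p G), (v' : G) = t⁻¹ * v * t → co i v = co i₀ v'
  co_ker : ∀ i (v : ↥(modV p G)), co i v = 1 ↔ (v : G) ∈ centralizer (E i : Set G)
  co_surj : ∀ i w, ∃ v : ↥(modV p G), (v : G) ∈ ⁅modV p G, E i⁆ ∧ Multiplicative.toAdd (co i v) = w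
  co_eq : ∀ i (g : ↥(nJ p G)) (v v' : ↥(modV p G)), (v' : G) = (g : G) * v * (g : G)⁻¹ →
    Multiplicative.toAdd (co i v') = act (π i g) (Multiplicative.toAdd (co i v))

theorem nJ_normal : (nJ p G).Normal := by
  haveI := H10.thompsonSubgroup_characteristic (p := p) (G := G)
  haveI : (Cfsg.thompsonSubgroup p G).Normal := inferInstance
  haveI : (cenV p G).Normal := H80.LCSS.Data.cenV_normal
  infer_instance

theorem modV_normal : (modV p G).Normal := H80.LCSS.omega_normal' (H1.pCore_normal' p G)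

theorem comm_normal_conj {A B : Subgroup G} (g : G) :
    ⁅A, B⁆.map (MulAut.conj g).toMonoidHom = ⁅cj g A, cj g B⁆ :=
  Subgroup.map_commutator _ _ _

namespace Fam

variable {T : Sylow p G} {r : ℕ} {E : Fin r → Subgroup G} (f : Fam p T E)
include f

theorem E_le (i : Fin r) : E i ≤ nJ p G := f.sup ▸ le_iSup E i

theorem E_norm (i : Fin r) : nJ p G ≤ normalizer (E i : Set G) := by
  rw [← f.sup]
  refine iSup_le fun j => ?_
  by_cases h : j = i
  · subst h; exact le_normalizer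
  · refine H75.le_normalizer_of_conj fun g hg e he => ?_
    rw [show g * e * g⁻¹ = ⁅g, e⁆ * e by rw [commutatorElement_def, inv_mul_cancel_right]]
    exact mul_mem (f.cen i (f.comm j i h (commutator_mem_commutator hg he))) he

theorem U_le (i : Fin r) : ⁅modV p G, E i⁆ ≤ modV p G := by
  haveI := modV_normal (p := p) (G := G)
  exact commutator_le_left _ _

theorem U_norm (i : Fin r) : nJ p G ≤ normalizer ((⁅modV p G, E i⁆ : Subgroup G) : Set G) := by
  intro g hg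
  rw [mem_normalizer_iff_map_conj_eq]
  refine (comm_normal_conj g).trans ?_
  congr 1
  · exact (modV_normal (p := p) (G := G)).map_conj_eq _ g
  · exact mem_normalizer_iff_map_conj_eq.1 (f.E_norm i hg)

theorem E_cent {i j : Fin r} (h : j ≠ i) {e u : G} (he : e ∈ E j) (hu : u ∈ ⁅modV p G, E i⁆) :
    e * u = u * e :=
  mem_centralizer_iff.1
    ((commutator_eq_bot_iff_le_centralizer.1 (f.fix i j (Ne.symm h))) hu) e he

theorem split_at (i : Fin r) :
    modV p G ≤ ⁅modV p G, E i⁆ ⊔ (modV p G ⊓ centralizer (E i : Set G)) := by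
  conv_lhs => rw [← f.split]
  refine sup_le (le_sup_of_le_right (inf_le_inf_left _
    (centralizer_le (SetLike.coe_subset_coe.2 (le_iSup E i))))) (iSup_le fun j => ?_)
  by_cases h : j = i
  · subst h; exact le_sup_left
  · exact le_sup_of_le_right fun u hu => ⟨f.U_le j hu,
      mem_centralizer_iff.2 fun e he => f.E_cent (Ne.symm h) he hu⟩

theorem decomp (i : Fin r) {v : G} (hv : v ∈ modV p G) :
    ∃ u ∈ ⁅modV p G, E i⁆, ∃ z ∈ modV p G ⊓ centralizer (E i : Set G), v = u * z := by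
  obtain ⟨a, ha, b, hb, rfl⟩ := H10.exists_mul_of_mem_sup
    (H78.PMin.le_normalizer_of_le_elem (H80.LCSS.omega_elem (p := p) _) (f.U_le i) inf_le_left)
    (f.split_at i hv)
  exact ⟨a, ha, b, hb, rfl⟩

theorem exists_coord {K W : Type} [Group K] [AddCommGroup W] {act : K → W → W} (m : Mdl act)
    {i₀ : Fin r} {ρ : ↥(E i₀) →* K} {ψ : ↥⁅modV p G, E i₀⁆ →* Multiplicative W}
    (b : Base p act (E i₀) ρ ψ) :
    ∃ (π₀ : ↥(nJ p G) →* K) (co₀ : ↥(modV p G) →* Multiplicative W),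
      (∀ j (g : ↥(nJ p G)), (g : G) ∈ E j → j ≠ i₀ → π₀ g = 1) ∧
      (∀ e : ↥(E i₀), π₀ ⟨e, f.E_le i₀ e.2⟩ = ρ e) ∧
      (∀ g : ↥(nJ p G), (g : G) ∈ cenV p G → π₀ g = 1) ∧
      (∀ v : ↥(modV p G), co₀ v = 1 ↔ (v : G) ∈ centralizer (E i₀ : Set G)) ∧
      (∀ u : ↥⁅modV p G, E i₀⁆, co₀ ⟨u, f.U_le i₀ u.2⟩ = ψ u) ∧
      ∀ (g : ↥(nJ p G)) (v v' : ↥(modV p G)), (v' : G) = (g : G) * v * (g : G)⁻¹ →
        Multiplicative.toAdd (co₀ v') = act (π₀ g) (Multiplicative.toAdd (co₀ v)) := by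
  classical
  have hVel : Cfsg.IsElementaryAbelian p (modV p G) := H80.LCSS.omega_elem _
  choose u hu z hz huz using fun v : ↥(modV p G) => f.decomp i₀ v.2
  have hwd : ∀ (v : ↥(modV p G)) (a : ↥⁅modV p G, E i₀⁆) (c : G),
      c ∈ centralizer (E i₀ : Set G) → (v : G) = (a : G) * c → ψ ⟨u v, hu v⟩ = ψ a := by
    intro v a c hc he
    have h1 : ψ (a⁻¹ * ⟨u v, hu v⟩) = 1 := by
      refine (b.pker _).2 ?_
      show (a : G)⁻¹ * u v ∈ centralizer (E i₀ : Set G)
      rw [show (a : G)⁻¹ * u v = c * (z v)⁻¹ by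
        rw [eq_mul_inv_iff_mul_eq, mul_assoc, ← huz, he, inv_mul_cancel_left]]
      exact mul_mem hc (inv_mem (hz v).2)
    rw [map_mul, map_inv, inv_mul_eq_one] at h1
    exact h1.symm
  let co₀ : ↥(modV p G) →* Multiplicative W :=
    MonoidHom.mk' (fun v => ψ ⟨u v, hu v⟩) fun v w => by
      rw [hwd (v * w) (⟨u v, hu v⟩ * ⟨u w, hu w⟩) (z v * z w) (mul_mem (hz v).2 (hz w).2), map_mul]
      show (v : G) * w = u v * u w * (z v * z w)
      calc (v : G) * w = u v * (z v * u w) * z w := by rw [huz v, huz w]; group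
        _ = u v * (u w * z v) * z w := by rw [H10.comm_of_elem hVel (hz v).1 (f.U_le i₀ (hu w))]
        _ = _ := by group
  have hcoU : ∀ a : ↥⁅modV p G, E i₀⁆, co₀ ⟨a, f.U_le i₀ a.2⟩ = ψ a := fun a =>
    hwd _ a 1 (one_mem _) (mul_one _).symm
  have hcoZ : ∀ v : ↥(modV p G), co₀ v = 1 ↔ (v : G) ∈ centralizer (E i₀ : Set G) := by
    intro v
    constructor
    · intro h
      rw [huz v]
      exact mul_mem ((b.pker ⟨u v, hu v⟩).1 h) (hz v).2
    · intro h
      rw [show co₀ v = ψ 1 from hwd v 1 v h (one_mul _).symm, map_one]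
  have hcos : ∀ w, ∃ v, Multiplicative.toAdd (co₀ v) = w := fun w => by
    obtain ⟨a, ha⟩ := b.psurj (Multiplicative.ofAdd w)
    exact ⟨⟨a, f.U_le i₀ a.2⟩, by rw [hcoU, ha, toAdd_ofAdd]⟩
  let Rel : G → K → Prop := fun g k => ∀ v v' : ↥(modV p G), (v' : G) = g * v * g⁻¹ →
    Multiplicative.toAdd (co₀ v') = act k (Multiplicative.toAdd (co₀ v))
  have hVn := modV_normal (p := p) (G := G)
  have hmul : ∀ g h k l, Rel g k → Rel h l → Rel (g * h) (k * l) := by
    intro g h k l hg hh v v' he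
    rw [m.mul, ← hh v ⟨_, hVn.conj_mem _ v.2 h⟩ rfl]
    exact hg _ _ (by rw [he]; group)
  have huniq : ∀ g k l, Rel g k → Rel g l → k = l := fun g k l hk hl => m.faith k l fun w => by
    obtain ⟨v, rfl⟩ := hcos w
    rw [← hk v ⟨_, hVn.conj_mem _ v.2 g⟩ rfl, ← hl v ⟨_, hVn.conj_mem _ v.2 g⟩ rfl]
  have hcen : ∀ g, g ∈ cenV p G → Rel g 1 := by
    intro g hg v v' he
    rw [← mem_centralizer_iff.1 hg v v.2, mul_inv_cancel_right] at he
    rw [m.one, show v' = v from Subtype.ext he]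
  have hE0 : ∀ e : ↥(E i₀), Rel e (ρ e) := by
    intro e v v' he
    have h1 : (e : G) * u v * (e : G)⁻¹ ∈ ⁅modV p G, E i₀⁆ :=
      H75.conj_mem_of_mem_normalizer (f.U_norm i₀ (f.E_le i₀ e.2)) (hu v)
    have h2 : co₀ v' = ψ ⟨_, h1⟩ := hwd v' ⟨_, h1⟩ (z v) (hz v).2 (by
      show (v' : G) = _
      rw [he]
      calc (e : G) * v * (e : G)⁻¹ = (e : G) * (u v * z v) * (e : G)⁻¹ := by rw [← huz v]
        _ = (e : G) * u v * (z v * (e : G)⁻¹) := by group
        _ = (e : G) * u v * ((e : G)⁻¹ * z v) := by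
          rw [(mem_centralizer_iff.1 (hz v).2 _ (inv_mem e.2))]
        _ = _ := by group)
    rw [h2]
    exact b.equiv e _ _ rfl
  have hEj : ∀ j, j ≠ i₀ → ∀ e ∈ E j, Rel e 1 := by
    intro j hj e he v v' hv'
    rw [m.one]
    have h1 : e * z v * e⁻¹ ∈ centralizer (E i₀ : Set G) :=
      H75.conj_mem_of_mem_normalizer (H75.normalizer_le_normalizer_centralizer (E i₀)
        (f.E_norm i₀ (f.E_le j he))) (hz v).2
    rw [show co₀ v' = ψ ⟨u v, hu v⟩ from hwd v' _ _ h1 (by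
      rw [hv']
      calc e * v * e⁻¹ = (e * u v) * z v * e⁻¹ := by rw [huz v]; group
        _ = (u v * e) * z v * e⁻¹ := by rw [f.E_cent hj he (hu v)]
        _ = _ := by group)]
    rfl
  let S : Subgroup G := {
    carrier := {g | ∃ k, Rel g k}
    one_mem' := ⟨1, hcen 1 (one_mem _)⟩
    mul_mem' := fun {g h} ⟨k, hk⟩ ⟨l, hl⟩ => ⟨k * l, hmul g h k l hk hl⟩
    inv_mem' := by
      rintro g ⟨k, hk⟩
      refine ⟨k⁻¹, fun v v' he => ?_⟩
      rw [hk v' v (by rw [he]; group), m.inv_act] }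
  have hS : nJ p G ≤ S := by
    rw [← f.sup]
    refine iSup_le fun j e he => ?_
    by_cases hj : j = i₀
    · subst hj; exact ⟨_, hE0 ⟨e, he⟩⟩
    · exact ⟨1, hEj j hj e he⟩
  choose pf hpf using fun g : ↥(nJ p G) => (hS g.2 : ∃ k, Rel g k)
  refine ⟨MonoidHom.mk' pf fun g h => huniq _ _ _ (hpf (g * h)) (hmul _ _ _ _ (hpf g) (hpf h)), co₀,
    fun j g hg hj => huniq _ _ _ (hpf g) (hEj j hj g hg), fun e => huniq _ _ _ (hpf _) (hE0 e),
    fun g hg => huniq _ _ _ (hpf g) (hcen g hg), hcoZ, hcoU, fun g v v' he => hpf g v v' he⟩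

theorem exists_sys {K W : Type} [Group K] [Nontrivial K] [AddCommGroup W] {act : K → W → W}
    (m : Mdl act) {i₀ : Fin r} {ρ : ↥(E i₀) →* K}
    {ψ : ↥⁅modV p G, E i₀⁆ →* Multiplicative W} (b : Base p act (E i₀) ρ ψ) :
    ∃ π co, Sys p T E act i₀ π co := by
  classical
  obtain ⟨π₀, co₀, hother, hE0, hcen, hker, hU, heq⟩ := f.exists_coord m b
  have hex : ∀ i, ∃ t ∈ (T : Subgroup G), cj t (E i₀) = E i ∧ (i = i₀ → t = 1) := by
    intro i
    by_cases h : i = i₀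
    · exact ⟨1, one_mem _, by rw [h]; exact H70.cj_of_mem (one_mem _), fun _ => rfl⟩
    · obtain ⟨t, ht, he⟩ := f.conj i₀ i
      exact ⟨t, ht, he, fun h' => absurd h' h⟩
  choose t ht htE ht1 using hex
  have hinj : ∀ {i j}, E i = E j → i = j := by
    intro i j h
    by_contra hne
    have h1 : E i ≤ cenV p G := le_trans (le_inf le_rfl (h.le.trans
      (le_iSup₂ (f := fun k (_ : k ∈ {k | k ≠ i}) => E k) j (Ne.symm hne)))) (f.inter i)
    have h2 : E i₀ ≤ cenV p G := by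
      intro x hx
      have hx' : t i * x * (t i)⁻¹ ∈ cenV p G := h1 ((htE i).le
        (H70.mem_cj.2 (by simpa [mul_assoc] using hx)))
      simpa [mul_assoc] using (H80.LCSS.Data.cenV_normal (p := p) (G := G)).conj_mem _ hx' (t i)⁻¹
    obtain ⟨k, hk⟩ := exists_ne (1 : K)
    obtain ⟨e, rfl⟩ := b.surj k
    exact hk ((b.ker e).2 (h2 e.2))
  have hVn := modV_normal (p := p) (G := G)
  have hNn := nJ_normal (p := p) (G := G)
  let c : ∀ i, ↥(nJ p G) →* ↥(nJ p G) := fun i => MonoidHom.mk'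
    (fun g => ⟨(t i)⁻¹ * g * t i, by simpa using hNn.conj_mem _ g.2 (t i)⁻¹⟩)
    fun g h => Subtype.ext (by simp [mul_assoc])
  let d : ∀ i, ↥(modV p G) →* ↥(modV p G) := fun i => MonoidHom.mk'
    (fun g => ⟨(t i)⁻¹ * g * t i, by simpa using hVn.conj_mem _ g.2 (t i)⁻¹⟩)
    fun g h => Subtype.ext (by simp [mul_assoc])
  have hmemE : ∀ {i} {x : G}, x ∈ E i ↔ (t i)⁻¹ * x * t i ∈ E i₀ := fun {i x} => by
    rw [← htE i, H70.mem_cj]
  refine ⟨fun i => π₀.comp (c i), fun i => co₀.comp (d i), fun i j g hg hji => ?_, fun i k => ?_,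
    fun i g hg h1 => ?_, fun i g hg => ?_, fun i => ?_, fun i v => ?_, fun i w => ?_,
    fun i g v v' he => ?_⟩
  · obtain ⟨l, hl⟩ := f.perm _ (inv_mem (ht j)) i
    refine hother l (c j g) (hl.le ⟨g, hg, by simp [c, mul_assoc]⟩) fun hli => hji (hinj ?_)
    rw [← htE j, ← hli, ← hl]
    exact H78.PMin.cj_cancel (t j) (E i)
  · obtain ⟨e, rfl⟩ := b.surj k
    refine ⟨⟨t i * e * (t i)⁻¹, hNn.conj_mem _ (f.E_le i₀ e.2) _⟩, hmemE.2 ?_, ?_⟩
    · show (t i)⁻¹ * (t i * e * (t i)⁻¹) * t i ∈ E i₀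
      simp [mul_assoc]
    · show π₀ (c i _) = ρ e
      rw [← hE0 e]
      exact congrArg π₀ (Subtype.ext (show (t i)⁻¹ * (t i * e * (t i)⁻¹) * t i = e by group))
  · have h2 := (b.ker ⟨_, hmemE.1 hg⟩).1 (by rw [← hE0]; exact h1)
    simpa [mul_assoc] using
      (H80.LCSS.Data.cenV_normal (p := p) (G := G)).conj_mem _ h2 (t i)
  · refine hcen _ ?_
    show (t i)⁻¹ * g * t i ∈ cenV p G
    simpa using (H80.LCSS.Data.cenV_normal (p := p) (G := G)).conj_mem _ hg (t i)⁻¹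
  · refine ⟨t i, ht i, htE i, fun g g' he => ?_, fun v v' he => ?_⟩
    · show π₀ (c i g) = π₀ (c i₀ g')
      refine congrArg π₀ (Subtype.ext ?_)
      show (t i)⁻¹ * g * t i = (t i₀)⁻¹ * g' * t i₀
      rw [ht1 i₀ rfl, he]; group
    · show co₀ (d i v) = co₀ (d i₀ v')
      refine congrArg co₀ (Subtype.ext ?_)
      show (t i)⁻¹ * v * t i = (t i₀)⁻¹ * v' * t i₀
      rw [ht1 i₀ rfl, he]; group
  · show co₀ (d i v) = 1 ↔ _
    rw [hker, mem_centralizer_iff, mem_centralizer_iff]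
    show (∀ e ∈ (E i₀ : Set G), e * ((t i)⁻¹ * v * t i) = (t i)⁻¹ * v * t i * e) ↔ _
    constructor
    · intro h x hx
      have h1 := h _ (hmemE.1 hx)
      calc x * v = t i * ((t i)⁻¹ * x * t i * ((t i)⁻¹ * v * t i)) * (t i)⁻¹ := by group
        _ = t i * ((t i)⁻¹ * v * t i * ((t i)⁻¹ * x * t i)) * (t i)⁻¹ := by rw [h1]
        _ = _ := by group
    · intro h e he
      have h1 := h (t i * e * (t i)⁻¹) (hmemE.2 (by simpa [mul_assoc] using he))
      calc e * ((t i)⁻¹ * v * t i) = (t i)⁻¹ * (t i * e * (t i)⁻¹ * v) * t i := by group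
        _ = (t i)⁻¹ * (v * (t i * e * (t i)⁻¹)) * t i := by rw [h1]
        _ = _ := by group
  · obtain ⟨a, ha⟩ := b.psurj (Multiplicative.ofAdd w)
    refine ⟨⟨t i * a * (t i)⁻¹, hVn.conj_mem _ (f.U_le i₀ a.2) _⟩, ?_, ?_⟩
    · have h1 : ⁅modV p G, E i⁆ = (⁅modV p G, E i₀⁆).map (MulAut.conj (t i)).toMonoidHom := by
        rw [comm_normal_conj, htE i]
        congr 1
        exact (hVn.map_conj_eq _ (t i)).symm
      rw [h1]
      exact ⟨a, a.2, rfl⟩
    · show Multiplicative.toAdd (co₀ (d i _)) = w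
      rw [← toAdd_ofAdd w, ← ha, ← hU a]
      exact congrArg _ (congrArg co₀ (Subtype.ext
        (show (t i)⁻¹ * (t i * a * (t i)⁻¹) * t i = a by group)))
  · refine heq (c i g) (d i v) (d i v') ?_
    show (t i)⁻¹ * v' * t i = (t i)⁻¹ * g * t i * ((t i)⁻¹ * v * t i) * ((t i)⁻¹ * g * t i)⁻¹
    rw [he]; group

end Fam

/-- Conjugated coordinates. -/
theorem Sys.twist {T : Sylow p G} {r : ℕ} {E : Fin r → Subgroup G} {K W : Type} [Group K]
    [AddCommGroup W] {act : K → W → W} {i₀ : Fin r} {π : Fin r → (↥(nJ p G) →* K)}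
    {co : Fin r → (↥(modV p G) →* Multiplicative W)} (s : Sys p T E act i₀ π co) (m : Mdl act)
    (k : K) :
    Sys p T E act i₀ (fun i => (MulAut.conj k).toMonoidHom.comp (π i))
      fun i => (AddMonoidHom.toMultiplicative (m.hom k)).comp (co i) := by
  refine ⟨fun i j g hg h => ?_, fun i l => ?_, fun i g hg h => ?_, fun i g hg => ?_, fun i => ?_,
    fun i v => ?_, fun i w => ?_, fun i g v v' he => ?_⟩
  · show k * π j g * k⁻¹ = 1
    rw [s.other i j g hg h, mul_one, mul_inv_cancel]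
  · obtain ⟨g, hg, hgl⟩ := s.surjE i (k⁻¹ * l * k)
    exact ⟨g, hg, show k * π i g * k⁻¹ = l by rw [hgl]; group⟩
  · refine s.kerE i g hg ?_
    have h' : k * π i g * k⁻¹ = 1 := h
    rwa [conj_eq_one_iff] at h'
  · show k * π i g * k⁻¹ = 1
    rw [s.cen1 i g hg, mul_one, mul_inv_cancel]
  · obtain ⟨t, ht, he, h1, h2⟩ := s.trans i
    exact ⟨t, ht, he, fun g g' e => by
      show k * π i g * k⁻¹ = k * π i₀ g' * k⁻¹
      rw [h1 g g' e], fun v v' e => by
      simp only [MonoidHom.comp_apply, h2 v v' e]⟩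
  · rw [← s.co_ker i v]
    show Multiplicative.ofAdd (act k (Multiplicative.toAdd (co i v))) = 1 ↔ _
    rw [ofAdd_eq_one, ← m.zero k, (m.inj k).eq_iff, toAdd_eq_zero]
  · obtain ⟨v, hv, hw⟩ := s.co_surj i (act k⁻¹ w)
    refine ⟨v, hv, ?_⟩
    show act k (Multiplicative.toAdd (co i v)) = w
    rw [hw, m.act_inv]
  · show act k (Multiplicative.toAdd (co i v')) = act (k * π i g * k⁻¹) (act k _)
    rw [s.co_eq i g v v' he, m.mul, m.inv_act, m.mul]

end H75.PMC
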